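import Groth.Agent.Lib.HypDesc25.Crit
import Groth.Agent.Lib.CohDesc25.FamFF
import Mathlib.CategoryTheory.Abelian.GrothendieckCategory.EnoughInjectives

/-!
# Full faithfulness on bounded below derived categories, passed along factorisations
-/

set_option autoImplicit false
set_option backward.isDefEq.respectTransparency false
set_option backward.isDefEq.respectTransparency.types false
set_option linter.unusedSectionVars false
set_option linter.style.haveILetI false
set_option maxHeartbeats 1000000

universe w₁ w₂ w₃ u v₁ v₂ v₃ u₁ u₂ u₃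

open CategoryTheory CategoryTheory.Limits Opposite TopologicalSpace

namespace GrothLib.HypDesc25

open GrothLib.CohDesc25

section Abstract

variable {A : Type u₁} [Category.{v₁} A] [Abelian A] [HasDerivedCategory.{w₁} A]
  {B : Type u₂} [Category.{v₂} B] [Abelian B] [HasDerivedCategory.{w₂} B]
  {C : Type u₃} [Category.{v₃} C] [Abelian C] [HasDerivedCategory.{w₃} C]
  (T₁ : A ⥤ B) (F : B ⥤ C) (T₂ : A ⥤ C) [T₁.Additive] [F.Additive] [T₂.Additive]
  [PreservesFiniteLimits T₁] [PreservesFiniteColimits T₁] [PreservesFiniteLimits F] [PreservesFiniteColimits F]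
  [PreservesFiniteLimits T₂] [PreservesFiniteColimits T₂] (e : T₁ ⋙ F ≅ T₂)

include e in
/-- A composite of functors fully faithful on bounded below derived categories is one. -/
theorem bijective_comp
    (h₁ : ∀ K L : DerivedCategory.Plus A, Function.Bijective fun g : K.obj ⟶ L.obj => T₁.mapDerivedCategory.map g)
    (hF : ∀ K L : DerivedCategory.Plus B, Function.Bijective fun g : K.obj ⟶ L.obj => F.mapDerivedCategory.map g)
    (K L : DerivedCategory.Plus A) :
    Function.Bijective fun g : K.obj ⟶ L.obj => T₂.mapDerivedCategory.map g := by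
  obtain ⟨n, hn⟩ := K.property
  obtain ⟨m, hm⟩ := L.property
  haveI := hn
  haveI := hm
  let e' := GrothLib.DerCat.mapDerivedCompIso T₁ F T₂ e
  rw [show (fun g : K.obj ⟶ L.obj => T₂.mapDerivedCategory.map g) =
      (fun z => e'.inv.app K.obj ≫ z ≫ e'.hom.app L.obj) ∘ (fun g => F.mapDerivedCategory.map g) ∘
        fun g : K.obj ⟶ L.obj => T₁.mapDerivedCategory.map g by
    funext g
    exact ((e'.inv.naturality_assoc g (e'.hom.app L.obj)).symm.trans (by simp)).symm]
  exact ((e'.app K.obj).homCongr (e'.app L.obj)).bijective.comp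
    ((hF ⟨_, n, GrothLib.DerTrunc.isGE_mapDerivedCategory T₁ K.obj n⟩
      ⟨_, m, GrothLib.DerTrunc.isGE_mapDerivedCategory T₁ L.obj m⟩).comp (h₁ K L))

include e in
/-- A functor fully faithful after a faithful one is fully faithful. -/
theorem bijective_of_comp
    (h₂ : ∀ K L : DerivedCategory.Plus A, Function.Bijective fun g : K.obj ⟶ L.obj => T₂.mapDerivedCategory.map g)
    (hF : ∀ K L : DerivedCategory.Plus B, Function.Injective fun g : K.obj ⟶ L.obj => F.mapDerivedCategory.map g)
    (K L : DerivedCategory.Plus A) :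
    Function.Bijective fun g : K.obj ⟶ L.obj => T₁.mapDerivedCategory.map g := by
  obtain ⟨n, hn⟩ := K.property
  obtain ⟨m, hm⟩ := L.property
  haveI := hn
  haveI := hm
  exact bijective_first_of_factorisations T₂.mapDerivedCategory T₁.mapDerivedCategory (𝟭 _)
    F.mapDerivedCategory T₂.mapDerivedCategory (Functor.rightUnitor _)
    (GrothLib.DerCat.mapDerivedCompIso T₁ F T₂ e) K.obj L.obj (h₂ K L) Function.bijective_id
    (hF ⟨_, n, GrothLib.DerTrunc.isGE_mapDerivedCategory T₁ K.obj n⟩
      ⟨_, m, GrothLib.DerTrunc.isGE_mapDerivedCategory T₁ L.obj m⟩)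

omit [HasDerivedCategory.{w₃} C] in
/-- A functor with a retraction up to isomorphism is faithful on derived categories. -/
theorem injective_of_retraction [HasDerivedCategory.{w₃} C] (G : C ⥤ B) [G.Additive] [PreservesFiniteLimits G]
    [PreservesFiniteColimits G] (r : F ⋙ G ≅ 𝟭 B) (K L : DerivedCategory B) :
    Function.Injective fun g : K ⟶ L => F.mapDerivedCategory.map g := by
  intro g g' h
  let e₁ := GrothLib.DerCat.mapDerivedCompIso F G (𝟭 B) r
  let e₀ := GrothLib.DerCat.mapDerivedCompIso (𝟭 B) (𝟭 B) (𝟭 B) (Functor.leftUnitor _)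
  have h1 : (𝟭 B).mapDerivedCategory.map g = (𝟭 B).mapDerivedCategory.map g' := by
    have h2 : (F.mapDerivedCategory ⋙ G.mapDerivedCategory).map g =
        (F.mapDerivedCategory ⋙ G.mapDerivedCategory).map g' := congrArg G.mapDerivedCategory.map h
    exact (cancel_epi (e₁.hom.app K)).1
      ((e₁.hom.naturality g).symm.trans ((congrArg (· ≫ e₁.hom.app L) h2).trans (e₁.hom.naturality g')))
  letI : Localization.Lifting DerivedCategory.Q (HomologicalComplex.quasiIso B (ComplexShape.up ℤ))
      ((𝟭 B).mapHomologicalComplex (ComplexShape.up ℤ) ⋙ DerivedCategory.Q) (𝟭 (DerivedCategory B)) :=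
    ⟨Functor.rightUnitor _ ≪≫ NatIso.ofComponents (fun X => DerivedCategory.Q.mapIso
      (HomologicalComplex.Hom.isoOfComponents (fun n => Iso.refl _) (fun i j _ => by simp)))
      (fun {X Y} f => by
        refine (DerivedCategory.Q.map_comp _ _).symm.trans (Eq.trans ?_ (DerivedCategory.Q.map_comp _ _))
        refine congrArg _ ?_
        ext n
        simp)⟩
  let i : (𝟭 B).mapDerivedCategory ≅ 𝟭 (DerivedCategory B) :=
    Localization.liftNatIso DerivedCategory.Q (HomologicalComplex.quasiIso B (ComplexShape.up ℤ))
      ((𝟭 B).mapHomologicalComplex (ComplexShape.up ℤ) ⋙ DerivedCategory.Q)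
      ((𝟭 B).mapHomologicalComplex (ComplexShape.up ℤ) ⋙ DerivedCategory.Q) _ _ (Iso.refl _)
  exact (cancel_epi (i.hom.app K)).1
    ((i.hom.naturality g).symm.trans ((congrArg (· ≫ i.hom.app L) h1).trans (i.hom.naturality g')))

end Abstract

section Spaces

open FibDesc

variable {D : Type} [SmallCategory D] (Y : (WithInitial D)ᵒᵖ ⥤ TopCat.{u})

instance instAdditiveTpull : (Tpull Y).Additive := inferInstance

instance instFiniteLimitsTpull : PreservesFiniteLimits (Tpull Y) := preservesFiniteLimits_Tpull

instance instFiniteColimitsTpull : PreservesFiniteColimits (Tpull Y) := preservesFiniteColimits_Tpull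

instance (priority := 10000) instPreservesZeroTpull : (Tpull Y).PreservesZeroMorphisms :=
  Functor.preservesZeroMorphisms_of_additive (Tpull Y)

instance (priority := 10000) instPreservesZeroPpush : (Ppush Y).PreservesZeroMorphisms :=
  haveI : (Ppush Y).Additive := (Tadj Y).right_adjoint_additive
  Functor.preservesZeroMorphisms_of_additive (Ppush Y)

theorem isCohDescentTop_of_unit (h : UnitQuasiIso (Tadj Y)) : FibDesc.IsCohDescentTop Y := by
  haveI hP : (eps (topAug Y)).sheafPushforwardContinuous AddCommGrpCat.{u} ((topAugTop Y) (bot D))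
      (totAug (topAug Y) (topAugTop Y)) |>.IsRightAdjoint := inferInstance
  refine ⟨inferInstance, hP, inferInstance, inferInstance, fun P => inferInstance,
    preservesFiniteLimits_Tpull, fun K L => ?_⟩
  letI := HasDerivedCategory.standard (BAb Y)
  letI := HasDerivedCategory.standard (DAb Y)
  exact bijective_of_unitQuasiIso (Tadj Y) h K L

theorem unit_of_isCohDescentTop (h : FibDesc.IsCohDescentTop Y) : UnitQuasiIso (Tadj Y) := by
  letI := HasDerivedCategory.standard (BAb Y)
  letI := HasDerivedCategory.standard (DAb Y)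
  obtain ⟨_, _, _, _, _, _, hb⟩ := h
  exact unitQuasiIso_of_bijective (Tadj Y) hb

/-- A family isomorphic to one of descent is of descent. -/
theorem isCohDescentTop_of_natIso {Y' : (WithInitial D)ᵒᵖ ⥤ TopCat.{u}} (e : Y' ≅ Y)
    (h : FibDesc.IsCohDescentTop Y') : FibDesc.IsCohDescentTop Y :=
  isCohDescentTop_of_openRestr_single
    { κ := e.hom
      V := ⊤
      emb := fun x => (TopCat.homeoOfIso (e.app x)).isOpenEmbedding
      range := fun x => (TopCat.homeoOfIso (e.app x)).surjective.range_eq }
    (fun _ => trivial) h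

variable {D' : Type} [SmallCategory D'] {pr : D' ⥤ D} {Y} (M : FamMap pr Y)

instance instFiniteLimitsPullM : PreservesFiniteLimits M.pullM := M.exact_pullM.1

instance instFiniteColimitsPullM : PreservesFiniteColimits M.pullM := M.exact_pullM.2

instance instAdditivePullM : M.pullM.Additive := additive_of_exact _

/-- A family with columns of descent over a family of descent is of descent. -/
theorem isCohDescentTop_of_columns {C : Type} [SmallCategory C] (L : ColData pr C)
    (hY : FibDesc.IsCohDescentTop Y) (h : ∀ n, FibDesc.IsCohDescentTop (M.Col L n)) :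
    FibDesc.IsCohDescentTop M.Z := by
  haveI hP : (eps (topAug M.Z)).sheafPushforwardContinuous AddCommGrpCat.{u} ((topAugTop M.Z) (bot D'))
      (totAug (topAug M.Z) (topAugTop M.Z)) |>.IsRightAdjoint := inferInstance
  refine ⟨inferInstance, hP, inferInstance, inferInstance, fun P => inferInstance,
    preservesFiniteLimits_Tpull, fun K L' => ?_⟩
  letI := HasDerivedCategory.standard (BAb Y)
  letI := HasDerivedCategory.standard (DAb Y)
  letI := HasDerivedCategory.standard (DAb M.Z)
  obtain ⟨_, _, _, _, _, _, hb⟩ := hY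
  exact bijective_comp (Tpull Y) M.pullM (Tpull M.Z) M.TIso hb (bijective_pullM M L h) K L'

end Spaces

end GrothLib.HypDesc25
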