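import Groth.Agent.Lib.HypDesc25.Sections
import Groth.Agent.Lib.HypDesc25.Derived

/-!
# Sheaves on a simplicial space acyclic up to a level
-/

set_option autoImplicit false
set_option backward.isDefEq.respectTransparency false
set_option backward.isDefEq.respectTransparency.types false
set_option linter.unusedSectionVars false
set_option linter.style.haveILetI false
set_option maxHeartbeats 1000000

universe u

open CategoryTheory CategoryTheory.Limits Opposite Pseudofunctor Pseudofunctor.CoGrothendieck TopologicalSpace Simplicial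

namespace GrothLib.HypDesc25

open FibDesc GrothLib.CohDesc25

variable {Y : (WithInitial SimplexCategory)ᵒᵖ ⥤ TopCat.{u}}

/-- Injective levels up to `M`, and exact rows in that range. -/
def AcyMem (Y : (WithInitial SimplexCategory)ᵒᵖ ⥤ TopCat.{u}) (M : ℕ) (Q : DAb Y) : Prop :=
  (∀ m ≤ M, Injective ((levD Y (op ⦋m⦌)).obj Q)) ∧
    ∀ (n : ℕ), n + 2 ≤ M → ∀ (V : Opens (Y.obj (bot SimplexCategory)))
      (z : lsec (𝟭 SimplexCategory) Y Q V (n + 1)), secD (𝟭 SimplexCategory) Y Q V (n + 1) z = 0 →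
        ∃ y, secD (𝟭 SimplexCategory) Y Q V n y = z

theorem acyMem_inj (J : DAb Y) [Injective J] (M : ℕ) : AcyMem Y M J :=
  ⟨fun _ _ => injective_levD Y _ J, fun n _ V z hz => secD_exact V consId n z hz⟩

theorem acyMem_iso {M : ℕ} {A A' : DAb Y} (e : A ≅ A') (h : AcyMem Y M A) : AcyMem Y M A' := by
  refine ⟨fun m hm => Injective.of_iso ((levD Y (op ⦋m⦌)).mapIso e) (h.1 m hm), fun n hn V z hz => ?_⟩
  obtain ⟨y, hy⟩ := h.2 n hn V (e.inv.hom.app _ z) (by rw [← secD_natural, hz, map_zero])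
  refine ⟨e.hom.hom.app _ y, ?_⟩
  rw [← secD_natural, hy]
  exact ConcreteCategory.congr_hom (NatTrans.congr_app (congrArg (fun t => t.hom) e.inv_hom_id) _) z

theorem acyMem_biprod {M : ℕ} {A A' : DAb Y} (h : AcyMem Y M A) (h' : AcyMem Y M A') : AcyMem Y M (A ⊞ A') := by
  refine ⟨fun m hm => ?_, fun n hn V z hz => ?_⟩
  · haveI := (exact_levD Y (op ⦋m⦌)).1
    haveI : (levD Y (op ⦋m⦌)).Additive := additive_of_exact _
    haveI := h.1 m hm
    haveI := h'.1 m hm
    haveI := preservesBinaryBiproducts_of_preservesBinaryProducts (levD Y (op ⦋m⦌))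
    exact Injective.of_iso ((levD Y (op ⦋m⦌)).mapBiprod A A').symm inferInstance
  · obtain ⟨y, hy⟩ := h.2 n hn V ((biprod.fst : A ⊞ A' ⟶ A).hom.app _ z) (by rw [← secD_natural, hz, map_zero])
    obtain ⟨y', hy'⟩ := h'.2 n hn V ((biprod.snd : A ⊞ A' ⟶ A').hom.app _ z) (by rw [← secD_natural, hz, map_zero])
    refine ⟨(biprod.inl : A ⟶ A ⊞ A').hom.app _ y + (biprod.inr : A' ⟶ A ⊞ A').hom.app _ y', ?_⟩
    rw [map_add, ← secD_natural, ← secD_natural, hy, hy']
    exact ConcreteCategory.congr_hom (NatTrans.congr_app (congrArg (fun t => t.hom) (biprod.total (X := A) (Y := A'))) _) z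

theorem exists_split_lev {S : ShortComplex (DAb Y)} (hS : S.ShortExact) (m : ℕ)
    [Injective ((levD Y (op ⦋m⦌)).obj S.X₁)] : Nonempty (S.map (levD Y (op ⦋m⦌))).Splitting :=
  haveI := (exact_levD Y (op ⦋m⦌)).1
  haveI := (exact_levD Y (op ⦋m⦌)).2
  haveI : (levD Y (op ⦋m⦌)).Additive := additive_of_exact _
  have h := hS.map_of_exact (levD Y (op ⦋m⦌))
  haveI : Injective (S.map (levD Y (op ⦋m⦌))).X₁ := inferInstanceAs (Injective ((levD Y (op ⦋m⦌)).obj S.X₁))
  ⟨h.splittingOfInjective⟩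

section Sections

variable {S : ShortComplex (DAb Y)} (hS : S.ShortExact) (m : ℕ) [Injective ((levD Y (op ⦋m⦌)).obj S.X₁)]
  (V : Opens (Y.obj (bot SimplexCategory)))

include hS in
theorem sec_surjective : Function.Surjective (S.g.hom.app (op ((ovFun (𝟭 SimplexCategory) Y V).obj (op ⦋m⦌)))) := fun q => by
  obtain ⟨s⟩ := exists_split_lev hS m
  exact ⟨s.s.hom.app (op (ov Y (op ⦋m⦌) V)) q,
    ConcreteCategory.congr_hom (NatTrans.congr_app (congrArg (fun t => t.hom) s.s_g) (op (ov Y (op ⦋m⦌) V))) q⟩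

include hS in
theorem sec_injective : Function.Injective (S.f.hom.app (op ((ovFun (𝟭 SimplexCategory) Y V).obj (op ⦋m⦌)))) := by
  obtain ⟨s⟩ := exists_split_lev hS m
  exact Function.LeftInverse.injective (g := s.r.hom.app (op (ov Y (op ⦋m⦌) V)))
    fun a => ConcreteCategory.congr_hom (NatTrans.congr_app (congrArg (fun t => t.hom) s.f_r) (op (ov Y (op ⦋m⦌) V))) a

include hS in
theorem sec_exact (b : lsec (𝟭 SimplexCategory) Y S.X₂ V m) (hb : S.g.hom.app _ b = 0) :
    ∃ a : lsec (𝟭 SimplexCategory) Y S.X₁ V m, S.f.hom.app (op ((ovFun (𝟭 SimplexCategory) Y V).obj (op ⦋m⦌))) a = b := by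
  obtain ⟨s⟩ := exists_split_lev hS m
  refine ⟨s.r.hom.app (op (ov Y (op ⦋m⦌) V)) b, ?_⟩
  have h := ConcreteCategory.congr_hom (NatTrans.congr_app (congrArg (fun t => t.hom) s.id) (op (ov Y (op ⦋m⦌) V))) b
  refine Eq.trans ?_ h
  refine ((add_zero _).symm.trans ?_)
  refine congrArg₂ (fun (x y : lsec (𝟭 SimplexCategory) Y S.X₂ V m) => x + y) rfl ?_
  exact ((congrArg (s.s.hom.app (op (ov Y (op ⦋m⦌) V))) hb).trans (map_zero _)).symm

end Sections

theorem acyMem_ext {M : ℕ} {S : ShortComplex (DAb Y)} (hS : S.ShortExact) (h₁ : AcyMem Y (M + 1) S.X₁)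
    (h₂ : AcyMem Y (M + 1) S.X₂) : AcyMem Y M S.X₃ := by
  refine ⟨fun m hm => ?_, fun n hn V z hz => ?_⟩
  · haveI := h₁.1 m (by omega)
    haveI := h₂.1 m (by omega)
    obtain ⟨s⟩ := exists_split_lev hS m
    refine ⟨fun {P Q} f i hi => ⟨Injective.factorThru (J := (levD Y (op ⦋m⦌)).obj S.X₂) (f ≫ s.s) i ≫ (levD Y (op ⦋m⦌)).map S.g, ?_⟩⟩
    refine (Category.assoc _ _ _).symm.trans ?_
    rw [Injective.comp_factorThru, Category.assoc]
    exact (congrArg (fun t => f ≫ t) s.s_g).trans (Category.comp_id _)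
  · haveI := h₁.1 (n + 1) (by omega)
    haveI := h₁.1 (n + 2) (by omega)
    haveI := h₁.1 (n + 3) (by omega)
    obtain ⟨b, rfl⟩ := sec_surjective hS (n + 1) V z
    obtain ⟨a, ha⟩ := sec_exact hS (n + 2) V (secD (𝟭 SimplexCategory) Y S.X₂ V (n + 1) b) (by rw [secD_natural]; exact hz)
    have ha0 : secD (𝟭 SimplexCategory) Y S.X₁ V (n + 2) a = 0 := by
      refine sec_injective hS (n + 3) V ?_
      rw [secD_natural, map_zero]
      refine (congrArg (secD (𝟭 SimplexCategory) Y S.X₂ V (n + 2)) ha).trans ?_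
      exact secD_secD _ _ _ _ _ b
    obtain ⟨a', rfl⟩ := h₁.2 (n + 1) (by omega) V a ha0
    obtain ⟨b'', hb''⟩ := h₂.2 n (by omega) V (b - S.f.hom.app _ a') (by rw [map_sub, ← secD_natural, ha, sub_self])
    refine ⟨S.g.hom.app _ b'', ?_⟩
    rw [← secD_natural, hb'', map_sub]
    have h0 : S.g.hom.app _ (S.f.hom.app _ a') = 0 :=
      ConcreteCategory.congr_hom (NatTrans.congr_app (congrArg (fun t => t.hom) S.zero)
        (op ((ovFun (𝟭 SimplexCategory) Y V).obj (op ⦋n + 1⦌)))) a'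
    rw [h0, sub_zero]

theorem epi_push {S : ShortComplex (DAb Y)} (hS : S.ShortExact) (h₁ : AcyMem Y 2 S.X₁) :
    Epi ((Ppush Y).map S.g) := by
  haveI := h₁.1 0 (by omega)
  haveI := h₁.1 1 (by omega)
  haveI := h₁.1 2 (by omega)
  haveI : ∀ V, Epi (((Ppush Y).map S.g).hom.app V) := fun V => by
    obtain ⟨V⟩ := V
    rw [AddCommGrpCat.epi_iff_surjective]
    intro z
    obtain ⟨b, hb⟩ := sec_surjective hS 0 V (aug0 (pr := 𝟭 SimplexCategory) S.X₃ V z)
    obtain ⟨a, ha⟩ := sec_exact hS 1 V (secD (𝟭 SimplexCategory) Y S.X₂ V 0 b) (by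
      rw [secD_natural]
      exact (congrArg (secD (𝟭 SimplexCategory) Y S.X₃ V 0) hb).trans (secD_aug0 S.X₃ V z))
    obtain ⟨a', rfl⟩ := h₁.2 0 (by omega) V a (by
      refine sec_injective hS 2 V ?_
      rw [secD_natural, map_zero]
      exact (congrArg (secD (𝟭 SimplexCategory) Y S.X₂ V 1) ha).trans (secD_secD _ _ _ _ _ b))
    obtain ⟨x, hx⟩ := aug0_exact V consId (J := S.X₂) (b - S.f.hom.app _ a') (by rw [map_sub, ← secD_natural, ha, sub_self])
    refine ⟨x, aug0_injective (J := S.X₃) V consId ?_⟩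
    rw [aug0_natural, hx, map_sub]
    have h0 : S.g.hom.app _ (S.f.hom.app _ a') = 0 :=
      ConcreteCategory.congr_hom (NatTrans.congr_app (congrArg (fun t => t.hom) S.zero)
        (op ((ovFun (𝟭 SimplexCategory) Y V).obj (op ⦋0⦌)))) a'
    rw [h0, sub_zero]
    exact hb
  haveI : Epi ((Ppush Y).map S.g).hom := NatTrans.epi_of_epi_app _
  exact (sheafToPresheaf _ _).epi_of_epi_map (inferInstanceAs (Epi ((Ppush Y).map S.g).hom))

/-- The class of sheaves acyclic for the direct image, up to a level. -/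
noncomputable def acy (Y : (WithInitial SimplexCategory)ᵒᵖ ⥤ TopCat.{u}) : AcyClass (Ppush Y) where
  mem := AcyMem Y
  inj J M hJ := haveI := hJ; acyMem_inj J M
  biprod _ _ _ h h' := acyMem_biprod h h'
  iso _ _ _ e h := acyMem_iso e h
  mono M M' A hMM h := ⟨fun m hm => h.1 m (hm.trans hMM), fun n hn => h.2 n (hn.trans hMM)⟩
  ext _ _ hS h₁ h₂ := acyMem_ext hS h₁ h₂
  epi _ hS h₁ _ := epi_push hS h₁

variable {D : Type} [SmallCategory D] {pr : SimplexCategory ⥤ D} {Y₁ : (WithInitial D)ᵒᵖ ⥤ TopCat.{u}}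
  (M : FamMap pr Y₁) (L : Cons pr)

include L in
theorem acyMem_pullM (N : ℕ) (hπ : ∀ m ≤ N, IsIso (M.π (op ⦋m⦌))) (E : DAb Y₁) [Injective E] :
    AcyMem M.Z N (M.pullM.obj E) := by
  refine ⟨fun m hm => ?_, fun n hn V z hz => ?_⟩
  · haveI := hπ m hm
    exact injective_levD_pullM M E (op ⦋m⦌)
  · haveI := hπ n (by omega)
    haveI := hπ (n + 1) (by omega)
    haveI := hπ (n + 2) hn
    exact secD_pullM_exact M L E V n z hz

include L in
/-- Descent in a range of degrees passes along maps of families bijective up to a level. -/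
theorem quasiIsoAt_of_famMap (hY : UnitQuasiIso (Tadj Y₁)) (N : ℕ) (hN : 1 ≤ N)
    (hπ : ∀ m ≤ N, IsIso (M.π (op ⦋m⦌)))
    (I : CochainComplex (BAb M.Z) ℤ) (a : ℤ) [I.IsStrictlyGE a] (hI : ∀ n, Injective (I.X n))
    (J : CochainComplex (DAb M.Z) ℤ) (b : ℤ) [J.IsStrictlyGE b] (hJ : ∀ n, Injective (J.X n))
    (φ : ((Tpull M.Z).mapHomologicalComplex (ComplexShape.up ℤ)).obj I ⟶ J) [QuasiIso φ] (q : ℤ)
    (hq : q + 3 ≤ min (a - 1) b + N) : QuasiIsoAt (transpose (Tadj M.Z) φ) q := by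
  letI := HasDerivedCategory.standard (DAb M.Z)
  exact quasiIsoAt_transpose (Tadj Y₁) (Tadj M.Z) M.TIso (acy M.Z) hY N
    (fun E hE => haveI := hE; acyMem_pullM M L N hπ E)
    (fun E _ =>
      haveI := hπ 0 (by omega)
      haveI := hπ 1 hN
      haveI := isIso_map_unit M L E
      isIso_ψ (Tadj Y₁) (Tadj M.Z) M.TIso M.adjM E)
    I a hI J b hJ φ q hq

include L in
/-- A map of families which is bijective in every degree preserves descent. -/
theorem isCohDescentTop_of_famMap (hY : FibDesc.IsCohDescentTop Y₁) (hπ : ∀ m, IsIso (M.π (op ⦋m⦌))) :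
    FibDesc.IsCohDescentTop M.Z := by
  refine isCohDescentTop_of_unit M.Z fun I a hIge hI J b hJge hJ φ hφ => ⟨fun q => ?_⟩
  haveI := hIge
  haveI := hJge
  haveI := hφ
  exact quasiIsoAt_of_famMap M L (unit_of_isCohDescentTop Y₁ hY) ((q + 4 - min (a - 1) b).toNat + 1) (by omega)
    (fun m _ => hπ m) I a hI J b hJ φ q (by omega)

end GrothLib.HypDesc25
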