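import Groth.Agent.Lib.PDesc25.Moore
import Mathlib.CategoryTheory.Products.Basic

/-!
# Sections along a simplicial index
-/

set_option autoImplicit false
set_option backward.isDefEq.respectTransparency false
set_option backward.isDefEq.respectTransparency.types false
set_option linter.unusedSectionVars false
set_option linter.style.haveILetI false
set_option maxHeartbeats 1000000

universe u

open CategoryTheory CategoryTheory.Limits Opposite Pseudofunctor Pseudofunctor.CoGrothendieck TopologicalSpace Simplicial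

namespace GrothLib.HypDesc25

open FibDesc GrothLib.CohDesc25 GrothLib.PDesc25

/-- Prepending a vertex along a simplicial index. -/
structure Cons {D : Type} [SmallCategory D] (pr : SimplexCategory ⥤ D) where
  cons : ∀ {n : ℕ} {m : D}, (pr.obj ⦋n⦌ ⟶ m) → (pr.obj ⦋n + 1⦌ ⟶ m)
  δ_zero : ∀ {n : ℕ} {m : D} (a : pr.obj ⦋n⦌ ⟶ m), pr.map (SimplexCategory.δ 0) ≫ cons a = a
  δ_succ : ∀ {n : ℕ} {m : D} (a : pr.obj ⦋n + 1⦌ ⟶ m) (i : Fin (n + 2)),
    pr.map (SimplexCategory.δ i.succ) ≫ cons a = cons (pr.map (SimplexCategory.δ i) ≫ a)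
  bpt : ∀ m : D, pr.obj ⦋0⦌ ⟶ m
  δ_one : ∀ {m : D} (a : pr.obj ⦋0⦌ ⟶ m), pr.map (SimplexCategory.δ 1) ≫ cons a = bpt m

theorem δ_one_consΔ {m : SimplexCategory} (a : ⦋0⦌ ⟶ m) :
    SimplexCategory.δ 1 ≫ consΔ a = vtx (0 : Fin (m.len + 1)) := by
  apply SimplexCategory.Hom.ext
  ext i : 2
  fin_cases i
  rfl

/-- The identity index. -/
def consId : Cons (𝟭 SimplexCategory) where
  cons {n m} a := consΔ (n := ⦋n⦌) a
  δ_zero a := δ_zero_consΔ a
  δ_succ a i := δ_succ_consΔ a i
  bpt m := vtx (m := m) 0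
  δ_one a := δ_one_consΔ a

/-- The diagonal index. -/
abbrev diagΔ : SimplexCategory ⥤ SimplexCategory × SimplexCategory := Functor.diag SimplexCategory

/-- The diagonal index, prepending vertices. -/
def consDiag : Cons diagΔ where
  cons {n m} a := (consΔ (n := ⦋n⦌) a.1, consΔ (n := ⦋n⦌) a.2)
  δ_zero a := Prod.ext (δ_zero_consΔ a.1) (δ_zero_consΔ a.2)
  δ_succ a i := Prod.ext (δ_succ_consΔ a.1 i) (δ_succ_consΔ a.2 i)
  bpt m := (vtx (m := m.1) 0, vtx (m := m.2) 0)
  δ_one a := Prod.ext (δ_one_consΔ a.1) (δ_one_consΔ a.2)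

variable {D : Type} [SmallCategory D] (pr : SimplexCategory ⥤ D) (Y : (WithInitial D)ᵒᵖ ⥤ TopCat.{u})

/-- The preimage of an open of the base. -/
noncomputable abbrev ov (j : Dᵒᵖ) (V : Opens (Y.obj (bot D))) : Opens (Y.obj ((toAug D).obj j)) :=
  (Opens.map (Y.map (toBot ((toAug D).obj j)))).obj V

theorem ov_le {j k : Dᵒᵖ} (θ : j ⟶ k) {V V' : Opens (Y.obj (bot D))} (h : V ≤ V') :
    ov Y j V ≤ (Opens.map (Y.map ((toAug D).map θ))).obj (ov Y k V') := fun x hx => by
  change Y.map (toBot _) (Y.map ((toAug D).map θ) x) ∈ V'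
  rw [← ConcreteCategory.comp_apply, ← Y.map_comp, toBot_unique ((toAug D).map θ ≫ toBot _) (toBot _)]
  exact h hx

theorem le_ov {j k : Dᵒᵖ} {W : Opens (Y.obj ((toAug D).obj j))} {V : Opens (Y.obj (bot D))} (θ : j ⟶ k)
    (h : W ≤ (Opens.map (Y.map ((toAug D).map θ))).obj (ov Y k V)) : W ≤ ov Y j V := fun x hx => by
  have h1 : Y.map (toBot _) (Y.map ((toAug D).map θ) x) ∈ V := h hx
  rw [← ConcreteCategory.comp_apply, ← Y.map_comp, toBot_unique ((toAug D).map θ ≫ toBot _) (toBot _)] at h1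
  exact h1

theorem le_ov_of_hom {j : Dᵒᵖ} {W : Opens (Y.obj ((toAug D).obj j))} {V : Opens (Y.obj (bot D))}
    (b : (incl (topAug Y)).obj (pObj Y j W) ⟶ (eps (topAug Y)).obj V) : W ≤ ov Y j V := fun w hw => by
  have h1 := le_of_aHom Y (b : aObj Y ((toAug D).obj j) W ⟶ aObj Y (bot D) V) hw
  rwa [toBot_unique b.base (toBot _)] at h1

/-- The objects over an open of the base. -/
noncomputable def ovFun (V : Opens (Y.obj (bot D))) : SimplexCategoryᵒᵖ ⥤ ∫ᶜ (part (topAug Y)) where
  obj j := pObj Y (pr.op.obj j) (ov Y (pr.op.obj j) V)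
  map θ := pHom Y (pr.op.map θ) (ov_le Y (pr.op.map θ) le_rfl)
  map_id j := pHom_ext Y (pr.op.map_id j)
  map_comp f g := pHom_ext Y (pr.op.map_comp f g)

variable (J : DAb Y) (V : Opens (Y.obj (bot D)))

/-- Sections of a level over an open of the base. -/
noncomputable abbrev lsec (n : ℕ) : AddCommGrpCat.{u} := J.obj.obj (op ((ovFun pr Y V).obj (op ⦋n⦌)))

/-- The differential on sections. -/
noncomputable def secD (n : ℕ) : lsec pr Y J V n →+ lsec pr Y J V (n + 1) :=
  ∑ i : Fin (n + 2), (-1 : ℤ) ^ (i : ℕ) • (J.obj.map ((ovFun pr Y V).map (SimplexCategory.δ i).op).op).hom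

theorem secD_apply (n : ℕ) (x : lsec pr Y J V n) : secD pr Y J V n x =
    ∑ i : Fin (n + 2), (-1 : ℤ) ^ (i : ℕ) • J.obj.map ((ovFun pr Y V).map (SimplexCategory.δ i).op).op x := by
  simp [secD, AddMonoidHom.finsetSum_apply]

theorem secD_natural {J J' : DAb Y} (f : J ⟶ J') (n : ℕ) (x : lsec pr Y J V n) :
    f.hom.app _ (secD pr Y J V n x) = secD pr Y J' V n (f.hom.app _ x) := by
  rw [secD_apply, secD_apply, map_sum]
  refine Finset.sum_congr rfl fun i _ => ?_
  rw [map_zsmul]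
  exact congrArg _ (NatTrans.naturality_apply f.hom _ x)

/-- The free presheaves. -/
noncomputable def freeOv : SimplicialObject ((∫ᶜ (part (topAug Y)))ᵒᵖ ⥤ AddCommGrpCat.{u}) :=
  ovFun pr Y V ⋙ yoneda ⋙ (Functor.whiskeringRight _ _ _).obj AddCommGrpCat.free.{u}

theorem secD_secD (n : ℕ) (x : lsec pr Y J V n) : secD pr Y J V (n + 1) (secD pr Y J V n x) = 0 := by
  let X : CosimplicialObject AddCommGrpCat.{u} := (ovFun pr Y V).rightOp ⋙ J.obj
  have h := ConcreteCategory.congr_hom (AlgebraicTopology.AlternatingCofaceMapComplex.d_squared X n) x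
  have e : ∀ (k : ℕ) (y : lsec pr Y J V k),
      AlgebraicTopology.AlternatingCofaceMapComplex.objD X k y = secD pr Y J V k y := fun k y => by
    rw [secD_apply, AlgebraicTopology.AlternatingCofaceMapComplex.objD]
    refine (hom_sum_apply _ _ _).trans ?_
    rfl
  rw [← e, ← e]
  exact h

variable {pr Y} (L : Cons pr)

/-- Prepending a vertex to a map of the total site. -/
noncomputable def consHom {X : ∫ᶜ (part (topAug Y))} {n : ℕ} (g : X ⟶ (ovFun pr Y V).obj (op ⦋n⦌)) :
    X ⟶ (ovFun pr Y V).obj (op ⦋n + 1⦌) :=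
  pHom Y (j := X.base) (U := X.fiber) (L.cons g.base.unop).op
    ((le_ov Y g.base (le_of_pHom Y (g : pObj Y X.base X.fiber ⟶ pObj Y (pr.op.obj (op ⦋n⦌)) (ov Y _ V)))).trans
      (ov_le Y _ le_rfl))

include L in
theorem exact_freeOv (n : ℕ) :
    (ShortComplex.mk (AlgebraicTopology.AlternatingFaceMapComplex.objD (freeOv pr Y V) (n + 1))
      (AlgebraicTopology.AlternatingFaceMapComplex.objD (freeOv pr Y V) n)
      (AlgebraicTopology.AlternatingFaceMapComplex.d_squared _ n)).Exact := by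
  let T := ShortComplex.mk (AlgebraicTopology.AlternatingFaceMapComplex.objD (freeOv pr Y V) (n + 1))
    (AlgebraicTopology.AlternatingFaceMapComplex.objD (freeOv pr Y V) n)
    (AlgebraicTopology.AlternatingFaceMapComplex.d_squared _ n)
  rw [ShortComplex.exact_iff_isZero_homology]
  refine Functor.isZero _ fun X => ?_
  refine IsZero.of_iso ?_ (T.mapHomologyIso ((evaluation _ _).obj X)).symm
  refine (ShortComplex.exact_iff_isZero_homology _).1 ?_
  rw [ShortComplex.ab_exact_iff]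
  obtain ⟨X⟩ := X
  let cons : ∀ k : ℕ, FreeAbelianGroup (X ⟶ (ovFun pr Y V).obj (op ⦋k⦌)) →+
      FreeAbelianGroup (X ⟶ (ovFun pr Y V).obj (op ⦋k + 1⦌)) := fun k => FreeAbelianGroup.map (consHom V L)
  let D' : ∀ k : ℕ, FreeAbelianGroup (X ⟶ (ovFun pr Y V).obj (op ⦋k + 1⦌)) →+
      FreeAbelianGroup (X ⟶ (ovFun pr Y V).obj (op ⦋k⦌)) := fun k =>
    ((AlgebraicTopology.AlternatingFaceMapComplex.objD (freeOv pr Y V) k).app (op X)).hom
  have hD : ∀ (k : ℕ) (g : X ⟶ (ovFun pr Y V).obj (op ⦋k + 1⦌)), D' k (FreeAbelianGroup.of g) =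
      ∑ i : Fin (k + 2), (-1 : ℤ) ^ (i : ℕ) •
        FreeAbelianGroup.of (g ≫ (ovFun pr Y V).map (SimplexCategory.δ i).op) := by
    intro k g
    simp only [D', AlgebraicTopology.AlternatingFaceMapComplex.objD]
    rw [NatTrans.app_sum]
    refine (hom_sum_apply _ _ _).trans ?_
    refine Finset.sum_congr rfl fun i _ => ?_
    rw [NatTrans.app_zsmul]
    rfl
  have key : ∀ x : FreeAbelianGroup (X ⟶ (ovFun pr Y V).obj (op ⦋n + 1⦌)),
      D' (n + 1) (cons (n + 1) x) + cons n (D' n x) = x := by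
    intro x
    induction x using FreeAbelianGroup.induction_on with
    | zero => simp
    | of g =>
      simp only [cons, FreeAbelianGroup.map_of_apply, hD, map_sum, map_zsmul]
      rw [Fin.sum_univ_succ, add_assoc, ← Finset.sum_add_distrib]
      have e0 : consHom V L g ≫ (ovFun pr Y V).map (SimplexCategory.δ (0 : Fin (n + 3))).op = g :=
        pHom_ext Y (Quiver.Hom.unop_inj (L.δ_zero g.base.unop))
      rw [Finset.sum_eq_zero fun i _ => ?_, add_zero, e0]
      · simp
      · have es : consHom V L g ≫ (ovFun pr Y V).map (SimplexCategory.δ i.succ).op =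
            consHom V L (g ≫ (ovFun pr Y V).map (SimplexCategory.δ i).op) :=
          pHom_ext Y (Quiver.Hom.unop_inj (L.δ_succ g.base.unop i))
        rw [es, Fin.val_succ, pow_succ, mul_neg_one, neg_smul, neg_add_cancel]
    | neg g hg =>
      rw [map_neg, map_neg, map_neg, map_neg, ← neg_add, hg]
    | add x y hx hy =>
      rw [map_add, map_add, map_add, map_add, add_add_add_comm, hx, hy]
  intro x hx
  refine ⟨cons (n + 1) x, ?_⟩
  have h := key x
  rw [show D' n x = 0 from hx, map_zero, add_zero] at h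
  exact h

variable {J}

include L in
/-- Sections of an injective sheaf are exact in positive degrees. -/
theorem secD_exact [Injective J] (n : ℕ) (z : lsec pr Y J V (n + 1)) (hz : secD pr Y J V (n + 1) z = 0) :
    ∃ y, secD pr Y J V n y = z := by
  let Jt := totPart (topAug Y) (topAugTop Y)
  let a := presheafToSheaf Jt AddCommGrpCat.{u}
  haveI := Functor.preservesHomologyOfExact a
  have h := (exact_freeOv V L n).map a
  have hd : ∀ (k : ℕ) (φ : SheafCoh.freeY Jt ((ovFun pr Y V).obj (op ⦋k⦌)) ⟶ J),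
      SheafCoh.homFreeY J _ (a.map (AlgebraicTopology.AlternatingFaceMapComplex.objD (freeOv pr Y V) k) ≫ φ) =
        secD pr Y J V k (SheafCoh.homFreeY J _ φ) := by
    intro k φ
    rw [secD_apply]
    simp only [AlgebraicTopology.AlternatingFaceMapComplex.objD]
    rw [Functor.map_sum, Preadditive.sum_comp]
    refine (map_sum (SheafCoh.homFreeY J _) _ _).trans (Finset.sum_congr rfl fun i _ => ?_)
    rw [Functor.map_zsmul, Preadditive.zsmul_comp]
    refine (map_zsmul (SheafCoh.homFreeY J _) _ _).trans (congrArg _ ?_)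
    exact SheafCoh.homFreeY_map J ((ovFun pr Y V).map (SimplexCategory.δ i).op) φ
  let φ := (SheafCoh.homFreeY J ((ovFun pr Y V).obj (op ⦋n + 1⦌))).symm z
  have hφ : a.map (AlgebraicTopology.AlternatingFaceMapComplex.objD (freeOv pr Y V) (n + 1)) ≫ φ = 0 := by
    refine (SheafCoh.homFreeY J ((ovFun pr Y V).obj (op ⦋n + 2⦌))).injective ((hd (n + 1) φ).trans ?_)
    refine Eq.trans ?_ (map_zero _).symm
    refine Eq.trans (congrArg _ ?_) hz
    exact AddEquiv.apply_symm_apply _ _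
  refine ⟨SheafCoh.homFreeY J _ (h.descToInjective φ hφ), ?_⟩
  rw [← hd n]
  refine (congrArg (SheafCoh.homFreeY J ((ovFun pr Y V).obj (op ⦋n + 1⦌))) (h.comp_descToInjective φ hφ)).trans ?_
  exact AddEquiv.apply_symm_apply _ _

variable (J)

/-- A section of the direct image, in degree zero. -/
noncomputable def aug0 : ((Ppush Y).obj J).obj.obj (op V) →+ lsec pr Y J V 0 :=
  leg J (j := pr.op.obj (op ⦋0⦌)) (W := ov Y _ V) (U := V) (aHom Y (toBot _) le_rfl)

theorem aug0_natural {J J' : DAb Y} (f : J ⟶ J') (x : ((Ppush Y).obj J).obj.obj (op V)) :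
    aug0 (pr := pr) J' V (((Ppush Y).map f).hom.app (op V) x) = f.hom.app _ (aug0 (pr := pr) J V x) :=
  (app_rleg (incl (topAug Y)) J f (c := pObj Y (pr.op.obj (op ⦋0⦌)) (ov Y _ V)) (aHom Y (toBot _) le_rfl) x).symm

theorem secD_aug0 (x : ((Ppush Y).obj J).obj.obj (op V)) : secD pr Y J V 0 (aug0 J V x) = 0 := by
  rw [secD_apply, Fin.sum_univ_two]
  have e : ∀ i : Fin 2, J.obj.map ((ovFun pr Y V).map (SimplexCategory.δ i).op).op (aug0 J V x) =
      leg J (j := pr.op.obj (op ⦋1⦌)) (W := ov Y _ V) (U := V) (aHom Y (toBot _) le_rfl) x :=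
    fun i => (map_leg J _ _ x).trans (leg_eq J _ _ x)
  rw [e, e]
  simp

include L in
theorem aug0_injective : Function.Injective (aug0 (pr := pr) J V) := by
  intro x y h
  refine leg_ext J x y fun j W b => ?_
  have hW := le_ov_of_hom Y b
  let c : pObj Y j W ⟶ pObj Y (pr.op.obj (op ⦋0⦌)) (ov Y _ V) :=
    pHom Y (L.bpt j.unop).op (hW.trans (ov_le Y _ le_rfl))
  have e : ∀ t, leg J b t = J.obj.map c.op (aug0 J V t) := fun t =>
    ((map_leg J c _ t).trans (leg_eq J _ _ t)).symm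
  rw [e, e, h]

include L in
theorem aug0_exact (y : lsec pr Y J V 0) (hy : secD pr Y J V 0 y = 0) : ∃ x, aug0 J V x = y := by
  let t : ∀ {j : D}, (pr.obj ⦋0⦌ ⟶ j) → J.obj.obj (op (pObj Y (op j) (ov Y (op j) V))) :=
    fun {j} a => J.obj.map (pHom Y (V := ov Y (pr.op.obj (op ⦋0⦌)) V) a.op (ov_le Y _ le_rfl)).op y
  have htt : ∀ {j k : D} (a : pr.obj ⦋0⦌ ⟶ j) (b : j ⟶ k),
      J.obj.map (pHom Y (U := ov Y (op k) V) (V := ov Y (op j) V) b.op (ov_le Y _ le_rfl)).op (t a) = t (a ≫ b) :=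
    fun a b => by
      refine (Functor.map_comp_apply J.obj _ _ y).symm.trans ?_
      exact congrArg (fun r => J.obj.map r y) (Quiver.Hom.unop_inj (pHom_ext Y rfl))
  have h01 : t (pr.map (SimplexCategory.δ (0 : Fin 2))) = t (pr.map (SimplexCategory.δ (1 : Fin 2))) := by
    rw [secD_apply, Fin.sum_univ_two] at hy
    simp only [Fin.val_zero, pow_zero, one_smul, Fin.val_one, pow_one, neg_smul] at hy
    exact add_neg_eq_zero.1 hy
  have hv : ∀ {j : D} (a : pr.obj ⦋0⦌ ⟶ j), t a = t (L.bpt j) := fun {j} a => by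
    rw [← L.δ_one a]
    conv_lhs => rw [← L.δ_zero a]
    rw [← htt, ← htt, h01]
  obtain ⟨x, hx⟩ := exists_of_legs J (U := V)
    (fun j W b => J.obj.map (pInc (le_ov_of_hom Y b)).op (t (L.bpt j.unop))) (fun j k W W' c b => by
      obtain ⟨n⟩ := j
      obtain ⟨l⟩ := k
      let a : n ⟶ l := c.base.unop
      rw [show t (L.bpt l) = t (L.bpt n ≫ a) from (hv (L.bpt n ≫ a)).symm, ← htt]
      refine (Functor.map_comp_apply J.obj _ _ _).symm.trans (Eq.trans ?_ (Functor.map_comp_apply J.obj _ _ _))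
      exact congrArg (fun r => J.obj.map r (t (L.bpt n))) (Quiver.Hom.unop_inj
        (pHom_ext Y ((Category.comp_id _).trans (Category.id_comp _).symm))))
  refine ⟨x, (hx (pr.op.obj (op ⦋0⦌)) (ov Y _ V) (aHom Y (toBot _) le_rfl)).trans ?_⟩
  refine (congrArg (J.obj.map (pInc _).op) ((hv (j := pr.obj ⦋0⦌) (𝟙 _)).symm)).trans ?_
  refine (Functor.map_comp_apply J.obj _ _ _).symm.trans ?_
  refine Eq.trans ?_ (Functor.map_id_apply J.obj _ y)
  exact congrArg (fun r => J.obj.map r y) (Quiver.Hom.unop_inj (pHom_ext Y (Category.comp_id _)))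

end GrothLib.HypDesc25
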