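import Mathlib.AlgebraicTopology.SimplicialObject.Basic
import Mathlib.CategoryTheory.Functor.KanExtension.Adjunction
import Mathlib.CategoryTheory.Functor.KanExtension.Pointwise

/-!
# Successive coskeleta
-/

set_option autoImplicit false
set_option backward.isDefEq.respectTransparency false
set_option linter.unusedSectionVars false
set_option linter.style.haveILetI false

universe v u

open CategoryTheory CategoryTheory.Limits Opposite Simplicial

namespace GrothLib.HypDesc25

theorem val_σ {n : ℕ} (i : Fin (n + 1)) (x : Fin (n + 2)) :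
    ((SimplexCategory.σ i).toOrderHom x : ℕ) = if (x : ℕ) ≤ i then (x : ℕ) else (x : ℕ) - 1 := by
  show ((i.predAbove x : Fin (n + 1)) : ℕ) = _
  simp only [Fin.predAbove, Fin.lt_def, Fin.val_castSucc]
  split_ifs <;> simp <;> omega

theorem val_δ {n : ℕ} (i : Fin (n + 2)) (x : Fin (n + 1)) :
    ((SimplexCategory.δ i).toOrderHom x : ℕ) = if (x : ℕ) < i then (x : ℕ) else (x : ℕ) + 1 := by
  show ((i.succAbove x : Fin (n + 2)) : ℕ) = _
  simp only [Fin.succAbove, Fin.lt_def, Fin.val_castSucc]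
  split_ifs <;> simp

theorem σ_conj {n : ℕ} (i j : Fin (n + 1)) (h : i < j) :
    SimplexCategory.σ i ≫ SimplexCategory.δ i.castSucc ≫ SimplexCategory.σ j ≫ SimplexCategory.δ j.succ ≫
      SimplexCategory.σ i = SimplexCategory.σ j ≫ SimplexCategory.δ j.succ ≫ SimplexCategory.σ i := by
  apply SimplexCategory.Hom.ext
  ext x : 2
  apply Fin.ext
  simp only [SimplexCategory.comp_toOrderHom, OrderHom.comp_coe, Function.comp_apply]
  have h' : (i : ℕ) < j := h
  have hj : (j : ℕ) < n + 1 := j.isLt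
  have hx : (x : ℕ) < n + 2 := x.isLt
  simp only [val_σ, val_δ, Fin.val_castSucc, Fin.val_succ]
  repeat' split_ifs
  all_goals omega

variable {C : Type u} [Category.{v} C]
  [∀ (n : ℕ) (G : (SimplexCategory.Truncated n)ᵒᵖ ⥤ C),
    (SimplexCategory.Truncated.inclusion n).op.HasRightKanExtension G]
  [∀ (n : ℕ) (G : (SimplexCategory.Truncated n)ᵒᵖ ⥤ C),
    (SimplexCategory.Truncated.inclusion n).op.HasPointwiseRightKanExtension G]
  (n : ℕ) (K : SimplicialObject C)

/-- The coskeleton of a simplicial object. -/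
noncomputable abbrev ck : SimplicialObject C :=
  (SimplicialObject.Truncated.cosk n).obj ((SimplicialObject.truncation n).obj K)

/-- The map to the coskeleton. -/
noncomputable abbrev ckU : K ⟶ ck n K := (SimplicialObject.coskAdj n).unit.app K

/-- The counit in degree `j`. -/
noncomputable abbrev ckε (j : ℕ) (hj : j ≤ n) : (ck n K).obj (op ⦋j⦌) ⟶ K.obj (op ⦋j⦌) :=
  ((SimplicialObject.coskAdj n).counit.app ((SimplicialObject.truncation n).obj K)).app (op ⟨⦋j⦌, hj⟩)

theorem ckU_ε (j : ℕ) (hj : j ≤ n) : (ckU n K).app (op ⦋j⦌) ≫ ckε n K j hj = 𝟙 _ :=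
  NatTrans.congr_app ((SimplicialObject.coskAdj n).left_triangle_components K) (op ⟨⦋j⦌, hj⟩)

theorem isIso_ckε (j : ℕ) (hj : j ≤ n) : IsIso (ckε n K j hj) :=
  haveI : IsIso ((SimplicialObject.coskAdj (C := C) n).counit) := Functor.reflective' _
  inferInstance

theorem isIso_ckU (j : ℕ) (hj : j ≤ n) : IsIso ((ckU n K).app (op ⦋j⦌)) := by
  haveI := isIso_ckε n K j hj
  haveI : IsIso ((ckU n K).app (op ⦋j⦌) ≫ ckε n K j hj) := by
    rw [ckU_ε]
    infer_instance
  exact IsIso.of_isIso_comp_right _ (ckε n K j hj)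

theorem ck_π {k : SimplexCategory} (f : StructuredArrow (op k) (SimplexCategory.Truncated.inclusion n).op) :
    (((Functor.RightExtension.mk _ ((SimplexCategory.Truncated.inclusion n).op.ranCounit.app
      ((SimplicialObject.truncation n).obj K))).coneAt (op k)).π.app f) =
      (ck n K).map f.hom ≫ ((SimplicialObject.coskAdj n).counit.app ((SimplicialObject.truncation n).obj K)).app f.right := by
  simp [SimplicialObject.coskAdj, Functor.ranAdjunction_counit]
  rfl

theorem ck_ext {T : C} {k : SimplexCategory} (g h : T ⟶ (ck n K).obj (op k))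
    (H : ∀ (j : ℕ), j ≤ n → ∀ θ : ⦋j⦌ ⟶ k, g ≫ (ck n K).map θ.op = h ≫ (ck n K).map θ.op) : g = h := by
  refine ((SimplexCategory.Truncated.inclusion n).op.isPointwiseRightKanExtensionRanCounit
    ((SimplicialObject.truncation n).obj K) (op k)).hom_ext fun f => ?_
  rw [ck_π, ← Category.assoc, ← Category.assoc]
  exact congrArg (fun t => t ≫ _) (H f.right.unop.1.len f.right.unop.2 f.hom.unop)

theorem ck_exists {T : C} {k : SimplexCategory} (v : ∀ (j : ℕ), j ≤ n → (⦋j⦌ ⟶ k) → (T ⟶ K.obj (op ⦋j⦌)))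
    (hv : ∀ (j l : ℕ) (hj : j ≤ n) (hl : l ≤ n) (α : ⦋l⦌ ⟶ ⦋j⦌) (θ : ⦋j⦌ ⟶ k),
      v j hj θ ≫ K.map α.op = v l hl (α ≫ θ)) :
    ∃ g : T ⟶ (ck n K).obj (op k),
      ∀ (j : ℕ) (hj : j ≤ n) (θ : ⦋j⦌ ⟶ k), g ≫ (ck n K).map θ.op = v j hj θ ≫ (ckU n K).app (op ⦋j⦌) := by
  let c : Cone (StructuredArrow.proj (op k) (SimplexCategory.Truncated.inclusion n).op ⋙
      (SimplicialObject.truncation n).obj K) :=
    { pt := T
      π :=
        { app := fun f => v f.right.unop.1.len f.right.unop.2 f.hom.unop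
          naturality := fun f f' a => by
            refine (Category.id_comp _).trans ?_
            refine Eq.trans ?_ (hv f.right.unop.1.len f'.right.unop.1.len f.right.unop.2 f'.right.unop.2
              ((SimplexCategory.Truncated.inclusion n).map a.right.unop) f.hom.unop).symm
            exact congrArg (v _ _) (congrArg Quiver.Hom.unop (StructuredArrow.w a)).symm } }
  let hlim := (SimplexCategory.Truncated.inclusion n).op.isPointwiseRightKanExtensionRanCounit
    ((SimplicialObject.truncation n).obj K) (op k)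
  refine ⟨hlim.lift c, fun j hj θ => ?_⟩
  haveI := isIso_ckε n K j hj
  rw [← cancel_mono (ckε n K j hj), Category.assoc, Category.assoc, ckU_ε, Category.comp_id]
  have h := hlim.fac c (StructuredArrow.mk (Y := op (⟨⦋j⦌, hj⟩ : SimplexCategory.Truncated n)) θ.op)
  rw [ck_π] at h
  exact h

/-- The value of a map to the coskeleton in degree at most `n`. -/
noncomputable def ckVal {T : C} {k : SimplexCategory} (g : T ⟶ (ck n K).obj (op k)) (j : ℕ) (hj : j ≤ n)
    (θ : ⦋j⦌ ⟶ k) : T ⟶ K.obj (op ⦋j⦌) :=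
  g ≫ (ck n K).map θ.op ≫ ckε n K j hj

theorem ckVal_u {T : C} {k : SimplexCategory} (g : T ⟶ (ck n K).obj (op k)) (j : ℕ) (hj : j ≤ n)
    (θ : ⦋j⦌ ⟶ k) : ckVal n K g j hj θ ≫ (ckU n K).app (op ⦋j⦌) = g ≫ (ck n K).map θ.op := by
  haveI := isIso_ckε n K j hj
  rw [← cancel_mono (ckε n K j hj), Category.assoc, ckU_ε, Category.comp_id, Category.assoc]
  rfl

theorem ckVal_map {T : C} {k : SimplexCategory} (g : T ⟶ (ck n K).obj (op k)) (j l : ℕ) (hj : j ≤ n) (hl : l ≤ n)
    (α : ⦋l⦌ ⟶ ⦋j⦌) (θ : ⦋j⦌ ⟶ k) :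
    ckVal n K g j hj θ ≫ K.map α.op = ckVal n K g l hl (α ≫ θ) := by
  haveI := isIso_ckU n K l hl
  rw [← cancel_mono ((ckU n K).app (op ⦋l⦌)), ckVal_u, Category.assoc, NatTrans.naturality,
    ← Category.assoc, ckVal_u, Category.assoc, ← Functor.map_comp, ← op_comp]

theorem ckVal_degenerate {T : C} {k : SimplexCategory} (g : T ⟶ (ck n K).obj (op k)) (a b : Fin (n + 1))
    (γ γ' : ⦋n⦌ ⟶ k) (h : SimplexCategory.σ a ≫ γ = SimplexCategory.σ b ≫ γ') :
    ckVal n K g n le_rfl γ ≫ K.map (SimplexCategory.σ a).op =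
      ckVal n K g n le_rfl γ' ≫ K.map (SimplexCategory.σ b).op := by
  wlog hab : a ≤ b generalizing a b γ γ'
  · exact (this b a γ' γ h.symm (le_of_not_ge hab)).symm
  rcases hab.eq_or_lt with rfl | hlt
  · have e : γ = γ' := by
      have h2 := congrArg (fun t => SimplexCategory.δ a.castSucc ≫ t) h
      simpa [SimplexCategory.δ_comp_σ_self_assoc] using h2
    rw [e]
  · let e : ⦋n⦌ ⟶ ⦋n⦌ := SimplexCategory.δ a.castSucc ≫ SimplexCategory.σ b ≫ SimplexCategory.δ b.succ ≫
      SimplexCategory.σ a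
    let c : ⦋n⦌ ⟶ ⦋n⦌ := SimplexCategory.δ b.succ ≫ SimplexCategory.σ a
    have hc : c ≫ γ = γ' := by
      simp only [c, Category.assoc, h, SimplexCategory.δ_comp_σ_succ_assoc]
    have he : e ≫ γ = γ := by
      simp only [e, Category.assoc, h, SimplexCategory.δ_comp_σ_succ_assoc]
      rw [← h, SimplexCategory.δ_comp_σ_self_assoc]
    have hσ : SimplexCategory.σ a ≫ e = SimplexCategory.σ b ≫ c := σ_conj a b hlt
    have h2 : ckVal n K g n le_rfl γ = ckVal n K g n le_rfl γ ≫ K.map e.op := by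
      rw [ckVal_map n K g n n le_rfl le_rfl e γ, he]
    have h3 : ckVal n K g n le_rfl γ' = ckVal n K g n le_rfl γ ≫ K.map c.op := by
      rw [ckVal_map n K g n n le_rfl le_rfl c γ, hc]
    rw [h3]
    conv_lhs => rw [h2]
    rw [Category.assoc, Category.assoc, ← Functor.map_comp, ← Functor.map_comp, ← op_comp, ← op_comp, hσ]

/-- The inverse of the unit in low degrees. -/
noncomputable def ckPre : (SimplicialObject.truncation n).obj (ck (n + 1) K) ⟶ (SimplicialObject.truncation n).obj K :=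
  haveI : IsIso ((SimplicialObject.truncation n).map (ckU (n + 1) K)) := by
    haveI : ∀ X, IsIso (((SimplicialObject.truncation n).map (ckU (n + 1) K)).app X) := fun X =>
      isIso_ckU (n + 1) K X.unop.1.len (Nat.le_succ_of_le X.unop.2)
    exact NatIso.isIso_of_isIso_app _
  inv ((SimplicialObject.truncation n).map (ckU (n + 1) K))

/-- The map between successive coskeleta. -/
noncomputable def ckP : ck (n + 1) K ⟶ ck n K :=
  (SimplicialObject.coskAdj n).homEquiv _ _ (ckPre n K)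

theorem ckU_ckP : ckU (n + 1) K ≫ ckP n K = ckU n K := by
  rw [ckP, ← Adjunction.homEquiv_naturality_left, ckPre, IsIso.hom_inv_id, Adjunction.homEquiv_id]

theorem isIso_ckP (j : ℕ) (hj : j ≤ n) : IsIso ((ckP n K).app (op ⦋j⦌)) := by
  haveI := isIso_ckU n K j hj
  haveI := isIso_ckU (n + 1) K j (Nat.le_succ_of_le hj)
  haveI : IsIso ((ckU (n + 1) K).app (op ⦋j⦌) ≫ (ckP n K).app (op ⦋j⦌)) := by
    rw [← NatTrans.comp_app, ckU_ckP]
    infer_instance
  exact IsIso.of_isIso_comp_left ((ckU (n + 1) K).app (op ⦋j⦌)) _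

theorem exists_σ_of_not_mono {m : SimplexCategory} (θ : ⦋n + 1⦌ ⟶ m) (hθ : ¬ Mono θ) :
    ∃ (i : Fin (n + 1)) (γ : ⦋n⦌ ⟶ m), θ = SimplexCategory.σ i ≫ γ :=
  SimplexCategory.eq_σ_comp_of_not_injective θ fun h => hθ (SimplexCategory.mono_iff_injective.2 h)

theorem ckP_ext {T : C} {k : SimplexCategory} (G G' : T ⟶ (ck (n + 1) K).obj (op k))
    (h : G ≫ (ckP n K).app (op k) = G' ≫ (ckP n K).app (op k))
    (h' : ∀ θ : ⦋n + 1⦌ ⟶ k, Mono θ → G ≫ (ck (n + 1) K).map θ.op = G' ≫ (ck (n + 1) K).map θ.op) : G = G' := by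
  have low : ∀ j ≤ n, ∀ θ : ⦋j⦌ ⟶ k, G ≫ (ck (n + 1) K).map θ.op = G' ≫ (ck (n + 1) K).map θ.op := fun j hj θ => by
    haveI := isIso_ckP n K j hj
    rw [← cancel_mono ((ckP n K).app (op ⦋j⦌)), Category.assoc, Category.assoc, NatTrans.naturality,
      ← Category.assoc, h, Category.assoc]
  refine ck_ext (n + 1) K G G' fun j hj θ => ?_
  rcases Nat.lt_or_eq_of_le hj with hj | rfl
  · exact low j (by omega) θ
  · by_cases hθ : Mono θ
    · exact h' θ hθ
    · obtain ⟨i, γ, rfl⟩ := exists_σ_of_not_mono n θ hθ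
      rw [op_comp, Functor.map_comp, ← Category.assoc, ← Category.assoc, low n le_rfl γ]

theorem ckP_exists {T : C} {k : SimplexCategory} (g : T ⟶ (ck n K).obj (op k))
    (l : ∀ θ : ⦋n + 1⦌ ⟶ k, Mono θ → (T ⟶ K.obj (op ⦋n + 1⦌)))
    (hl : ∀ θ hθ, l θ hθ ≫ (ckU n K).app (op ⦋n + 1⦌) = g ≫ (ck n K).map θ.op) :
    ∃ G : T ⟶ (ck (n + 1) K).obj (op k), G ≫ (ckP n K).app (op k) = g ∧
      ∀ θ hθ, G ≫ (ck (n + 1) K).map θ.op = l θ hθ ≫ (ckU (n + 1) K).app (op ⦋n + 1⦌) := by
  let P : ∀ (j : ℕ), (⦋j⦌ ⟶ k) → (T ⟶ K.obj (op ⦋j⦌)) → Prop := fun j θ x =>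
    (∀ (i : ℕ) (hi : i ≤ n) (α : ⦋j⦌ ⟶ ⦋i⦌) (γ : ⦋i⦌ ⟶ k), α ≫ γ = θ → x = ckVal n K g i hi γ ≫ K.map α.op) ∧
    (∀ (μ : ⦋n + 1⦌ ⟶ k) (hμ : Mono μ) (α : ⦋j⦌ ⟶ ⦋n + 1⦌), α ≫ μ = θ → x = l μ hμ ≫ K.map α.op)
  have hP : ∀ (j : ℕ), j ≤ n + 1 → ∀ θ : ⦋j⦌ ⟶ k, ∃ x, P j θ x := by
    intro j hj θ
    rcases Nat.lt_or_eq_of_le hj with hj | rfl
    · have hj' : j ≤ n := by omega
      refine ⟨ckVal n K g j hj' θ, fun i hi α γ e => ?_, fun μ hμ α e => ?_⟩
      · rw [ckVal_map n K g i j hi hj' α γ, e]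
      · haveI := isIso_ckU n K j hj'
        rw [← cancel_mono ((ckU n K).app (op ⦋j⦌)), ckVal_u, Category.assoc, NatTrans.naturality,
          ← Category.assoc, hl, Category.assoc, ← Functor.map_comp, ← op_comp, e]
    · by_cases hθ : Mono θ
      · refine ⟨l θ hθ, fun i hi α γ e => ?_, fun μ hμ α e => ?_⟩
        · haveI : Mono (α ≫ γ) := e ▸ hθ
          haveI : Mono α := mono_of_mono α γ
          have := SimplexCategory.len_le_of_mono α
          simp at this
          omega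
        · haveI : Mono (α ≫ μ) := e ▸ hθ
          haveI : Mono α := mono_of_mono α μ
          obtain rfl := SimplexCategory.eq_id_of_mono α
          rw [Category.id_comp] at e
          subst e
          rw [op_id, CategoryTheory.Functor.map_id, Category.comp_id]
      · obtain ⟨a, γ₀, hγ₀⟩ := exists_σ_of_not_mono n θ hθ
        refine ⟨ckVal n K g n le_rfl γ₀ ≫ K.map (SimplexCategory.σ a).op, fun i hi α γ e => ?_, fun μ hμ α e => ?_⟩
        · obtain ⟨b, α', rfl⟩ := exists_σ_of_not_mono n α (fun h => by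
            haveI := h
            have := SimplexCategory.len_le_of_mono α
            simp at this
            omega)
          rw [op_comp, Functor.map_comp, ← Category.assoc, ckVal_map n K g i n hi le_rfl α' γ]
          exact ckVal_degenerate n K g a b γ₀ (α' ≫ γ) (by rw [← hγ₀, ← e, Category.assoc])
        · obtain ⟨b, α', rfl⟩ := exists_σ_of_not_mono n α (fun h => hθ (by
            haveI := h
            rw [← e]
            infer_instance))
          haveI := isIso_ckU n K n le_rfl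
          have h1 : l μ hμ ≫ K.map α'.op = ckVal n K g n le_rfl (α' ≫ μ) := by
            rw [← cancel_mono ((ckU n K).app (op ⦋n⦌)), ckVal_u, Category.assoc, NatTrans.naturality,
              ← Category.assoc, hl, Category.assoc, ← Functor.map_comp, ← op_comp]
          rw [op_comp, Functor.map_comp, ← Category.assoc, h1]
          exact ckVal_degenerate n K g a b γ₀ (α' ≫ μ) (by rw [← hγ₀, ← e, Category.assoc])
  choose v hv using hP
  obtain ⟨G, hG⟩ := ck_exists (n + 1) K v (fun j i hj hi α θ => by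
    rcases Nat.lt_or_eq_of_le hj with hj' | rfl
    · rw [(hv j hj θ).1 j (by omega) (𝟙 _) θ (Category.id_comp _), Category.assoc, ← Functor.map_comp, ← op_comp]
      exact ((hv i hi (α ≫ θ)).1 j (by omega) (α ≫ 𝟙 _) θ (by rw [Category.comp_id])).symm
    · by_cases hθ : Mono θ
      · rw [(hv _ hj θ).2 θ hθ (𝟙 _) (Category.id_comp _), Category.assoc, ← Functor.map_comp, ← op_comp]
        exact ((hv i hi (α ≫ θ)).2 θ hθ (α ≫ 𝟙 _) (by rw [Category.comp_id])).symm
      · obtain ⟨a, γ, hγ⟩ := exists_σ_of_not_mono n θ hθ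
        rw [(hv _ hj θ).1 n le_rfl (SimplexCategory.σ a) γ hγ.symm, Category.assoc, ← Functor.map_comp, ← op_comp]
        exact ((hv i hi (α ≫ θ)).1 n le_rfl (α ≫ SimplexCategory.σ a) γ (by rw [Category.assoc, hγ])).symm)
  refine ⟨G, ck_ext n K _ _ fun j hj θ => ?_, fun θ hθ => ?_⟩
  · rw [Category.assoc, ← NatTrans.naturality, ← Category.assoc, hG j (by omega) θ, Category.assoc,
      ← NatTrans.comp_app, ckU_ckP, (hv j (by omega) θ).1 j hj (𝟙 _) θ (Category.id_comp _),
      op_id, CategoryTheory.Functor.map_id, Category.comp_id, ckVal_u]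
  · rw [hG (n + 1) le_rfl θ, (hv _ le_rfl θ).2 θ hθ (𝟙 _) (Category.id_comp _),
      op_id, CategoryTheory.Functor.map_id, Category.comp_id]

end GrothLib.HypDesc25
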