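import Groth.Agent.Lib.CohDesc25.Criterion
import Groth.Agent.Lib.PC.Modify
import Mathlib.CategoryTheory.Abelian.Exact
import Mathlib.Algebra.Homology.HomotopyCofiber

/-!
# Comparing two adjunctions through an exact functor that is acyclic up to a bound
-/

set_option autoImplicit false
set_option backward.isDefEq.respectTransparency false
set_option linter.unusedSectionVars false
set_option linter.style.haveILetI false
set_option maxHeartbeats 1000000

universe v v₁ v₂ u u₁ u₂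

open CategoryTheory CategoryTheory.Limits CochainComplex

namespace GrothLib.HypDesc25

open GrothLib.CohDesc25

section Right

variable {B : Type u} [Category.{v} B] {E : Type u₁} [Category.{v₁} E]
  {T T' : B ⥤ E} {P P' : E ⥤ B} (adjA : T ⊣ P) (adjB : T' ⊣ P') (e : T ≅ T')

/-- The comparison of two right adjoints of isomorphic functors. -/
noncomputable def cmpR (X : E) : P'.obj X ⟶ P.obj X :=
  adjA.homEquiv _ _ (e.hom.app _ ≫ adjB.counit.app X)

theorem homEquiv_cmpR {A : B} {X : E} (φ : T'.obj A ⟶ X) :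
    adjB.homEquiv A X φ ≫ cmpR adjA adjB e X = adjA.homEquiv A X (e.hom.app A ≫ φ) := by
  rw [cmpR, ← Adjunction.homEquiv_naturality_left]
  refine congrArg (adjA.homEquiv A X) ?_
  rw [e.hom.naturality_assoc, ← Adjunction.homEquiv_counit, Equiv.symm_apply_apply]

instance isIso_cmpR (X : E) : IsIso (cmpR adjA adjB e X) := by
  refine isIso_of_yoneda_map_bijective _ fun A => ?_
  have h : (fun x : A ⟶ P'.obj X => x ≫ cmpR adjA adjB e X) =
      adjA.homEquiv A X ∘ (fun φ => e.hom.app A ≫ φ) ∘ (adjB.homEquiv A X).symm := by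
    funext x
    refine Eq.trans ?_ (homEquiv_cmpR adjA adjB e _)
    rw [Equiv.apply_symm_apply]
  rw [h]
  exact (adjA.homEquiv A X).bijective.comp
    ((((asIso (e.hom.app A)).symm.homFromEquiv : (T'.obj A ⟶ X) ≃ (T.obj A ⟶ X)).bijective).comp
      (adjB.homEquiv A X).symm.bijective)

end Right

section Psi

variable {B : Type u} [Category.{v} B] {E₁ : Type u₁} [Category.{v₁} E₁] {E₂ : Type u₂} [Category.{v₂} E₂]
  {T₁ : B ⥤ E₁} {P₁ : E₁ ⥤ B} (adj₁ : T₁ ⊣ P₁) {F : E₁ ⥤ E₂} {T₂ : B ⥤ E₂} {P₂ : E₂ ⥤ B}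
  (adj₂ : T₂ ⊣ P₂) (e : T₁ ⋙ F ≅ T₂)

/-- The comparison of the direct images. -/
noncomputable def ψ (J : E₁) : P₁.obj J ⟶ P₂.obj (F.obj J) :=
  adj₂.homEquiv _ _ (e.inv.app (P₁.obj J) ≫ F.map (adj₁.counit.app J))

theorem homEquiv_ψ {A : B} {J : E₁} (x : T₁.obj A ⟶ J) :
    adj₁.homEquiv A J x ≫ ψ adj₁ adj₂ e J = adj₂.homEquiv A (F.obj J) (e.inv.app A ≫ F.map x) := by
  rw [ψ, ← Adjunction.homEquiv_naturality_left]
  refine congrArg (adj₂.homEquiv A _) ?_
  rw [e.inv.naturality_assoc, Functor.comp_map, ← Functor.map_comp, ← Adjunction.homEquiv_counit,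
    Equiv.symm_apply_apply]

theorem ψ_natural {J J' : E₁} (f : J ⟶ J') :
    P₁.map f ≫ ψ adj₁ adj₂ e J' = ψ adj₁ adj₂ e J ≫ P₂.map (F.map f) := by
  rw [ψ, ψ, ← Adjunction.homEquiv_naturality_left, ← Adjunction.homEquiv_naturality_right]
  refine congrArg (adj₂.homEquiv _ _) ?_
  rw [e.inv.naturality_assoc, Category.assoc, Functor.comp_map, ← Functor.map_comp, ← Functor.map_comp]
  exact congrArg (fun t => _ ≫ F.map t) (adj₁.counit.naturality f)

theorem isIso_ψ {G : E₂ ⥤ E₁} (adjF : F ⊣ G) (J : E₁) [IsIso (P₁.map (adjF.unit.app J))] :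
    IsIso (ψ adj₁ adj₂ e J) := by
  have h : ψ adj₁ adj₂ e J ≫ cmpR (adj₁.comp adjF) adj₂ e (F.obj J) = P₁.map (adjF.unit.app J) := by
    rw [ψ, homEquiv_cmpR, Iso.hom_inv_id_app_assoc]
    refine (congrFun (congrArg DFunLike.coe (congrFun (congrFun (Adjunction.comp_homEquiv adj₁ adjF)
      (P₁.obj J)) (F.obj J))) (F.map (adj₁.counit.app J))).trans ?_
    show adj₁.homEquiv _ _ (adjF.homEquiv _ _ (F.map (adj₁.counit.app J))) = _
    have h1 : adjF.homEquiv _ _ (F.map (adj₁.counit.app J)) = adj₁.counit.app J ≫ adjF.unit.app J :=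
      (adjF.homEquiv_unit _ _ _).trans (adjF.unit.naturality (adj₁.counit.app J)).symm
    refine (congrArg (adj₁.homEquiv _ _) h1).trans ?_
    refine (adj₁.homEquiv_naturality_right _ _).trans ?_
    simp [Adjunction.homEquiv_unit]
  haveI : IsIso (ψ adj₁ adj₂ e J ≫ cmpR (adj₁.comp adjF) adj₂ e (F.obj J)) := by
    rw [h]
    infer_instance
  exact IsIso.of_isIso_comp_right _ (cmpR (adj₁.comp adjF) adj₂ e (F.obj J))

end Psi

section Compare

variable {B : Type u} [Category.{v} B] [Abelian B] {E₁ : Type u₁} [Category.{v₁} E₁] [Abelian E₁]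
  [EnoughInjectives E₁]
  {E₂ : Type u₂} [Category.{v₂} E₂] [Abelian E₂]
  {T₁ : B ⥤ E₁} {P₁ : E₁ ⥤ B} [T₁.Additive] [P₁.Additive] (adj₁ : T₁ ⊣ P₁)
  {F : E₁ ⥤ E₂} [F.Additive] [PreservesFiniteLimits F] [PreservesFiniteColimits F]
  {T₂ : B ⥤ E₂} {P₂ : E₂ ⥤ B} [T₂.Additive] [P₂.Additive] (adj₂ : T₂ ⊣ P₂) (e : T₁ ⋙ F ≅ T₂)

/-- A graded class of sheaves on which the direct image is acyclic. -/
structure AcyClass (P₂ : E₂ ⥤ B) where
  mem : ℕ → E₂ → Prop
  inj : ∀ (J : E₂) (M : ℕ), Injective J → mem M J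
  biprod : ∀ (M : ℕ) (A A' : E₂), mem M A → mem M A' → mem M (A ⊞ A')
  iso : ∀ (M : ℕ) (A A' : E₂), (A ≅ A') → mem M A → mem M A'
  mono : ∀ (M M' : ℕ) (A : E₂), M ≤ M' → mem M' A → mem M A
  ext : ∀ (M : ℕ) (S : ShortComplex E₂), S.ShortExact → mem (M + 1) S.X₁ → mem (M + 1) S.X₂ → mem M S.X₃
  epi : ∀ (S : ShortComplex E₂), S.ShortExact → mem 2 S.X₁ → mem 2 S.X₂ → Epi (P₂.map S.g)

variable (𝒜 : AcyClass P₂)

include adj₂ in
/-- The direct image of an acyclic complex of acyclic objects is acyclic. -/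
theorem exactAt_map (C : CochainComplex E₂ ℤ) (c : ℤ) [C.IsStrictlyGE c] (hC : ∀ n, C.ExactAt n) (N : ℕ)
    (hmem : ∀ n, 𝒜.mem N (C.X n)) (n : ℤ) (hn : n + 2 ≤ c + N) :
    ((P₂.mapHomologicalComplex (ComplexShape.up ℤ)).obj C).ExactAt n := by
  haveI : PreservesLimitsOfSize.{0, 0} P₂ := adj₂.rightAdjoint_preservesLimits
  by_cases hc : n < c
  · exact HomologicalComplex.ExactAt.of_isZero (P₂.map_isZero (C.isZero_of_isStrictlyGE c n hc))
  let Z : ℤ → E₂ := fun m => kernel (C.d m (m + 1))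
  have hlift : ∀ m, C.d m (m + 1) ≫ C.d (m + 1) (m + 1 + 1) = 0 := fun m => C.d_comp_d _ _ _
  let g : ∀ m, C.X m ⟶ Z (m + 1) := fun m => kernel.lift _ (C.d m (m + 1)) (hlift m)
  have hg : ∀ m, Epi (g m) := fun m => by
    have h := (HomologicalComplex.exactAt_iff' C m (m + 1) (m + 1 + 1) (by simp) (by simp)).1 (hC (m + 1))
    exact (ShortComplex.exact_iff_epi_kernel_lift _).1 h
  have w : ∀ m, kernel.ι (C.d m (m + 1)) ≫ g m = 0 := fun m => by
    rw [← cancel_mono (kernel.ι (C.d (m + 1) (m + 1 + 1))), Category.assoc, kernel.lift_ι, kernel.condition,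
      zero_comp]
  have hS : ∀ m, (ShortComplex.mk _ _ (w m)).ShortExact := fun m => by
    haveI := hg m
    refine { exact := ShortComplex.exact_of_f_is_kernel _ ?_ }
    refine KernelFork.IsLimit.ofι _ _ (fun k hk => kernel.lift _ k ?_) (fun k hk => kernel.lift_ι _ _ _)
      (fun k hk l hl => by rw [← cancel_mono (kernel.ι (C.d m (m + 1))), kernel.lift_ι]; exact hl)
    have hd : g m ≫ kernel.ι (C.d (m + 1) (m + 1 + 1)) = C.d m (m + 1) := kernel.lift_ι _ _ _
    rw [← hd, reassoc_of% hk, zero_comp]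
  have hZ : ∀ (k M : ℕ), k + M ≤ N → 𝒜.mem M (Z (c + k)) := by
    intro k
    induction k with
    | zero =>
      intro M _
      refine 𝒜.inj _ M ?_
      have h := (HomologicalComplex.exactAt_iff' C (c - 1) (c + (0 : ℕ)) (c + (0 : ℕ) + 1) (by simp) (by simp)).1 (hC _)
      haveI : Mono (C.d (c + (0 : ℕ)) (c + (0 : ℕ) + 1)) :=
        h.mono_g ((C.isZero_of_isStrictlyGE c (c - 1) (by omega)).eq_of_src _ _)
      exact (isZero_kernel_of_mono _).injective
    | succ k ih =>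
      intro M hM
      have h := 𝒜.ext M _ (hS (c + k)) (ih (M + 1) (by omega)) (𝒜.mono (M + 1) N _ (by omega) (hmem _))
      refine 𝒜.iso M _ _ (eqToIso ?_) h
      exact congrArg Z (by push_cast; ring)
  obtain ⟨m, rfl⟩ : ∃ m, n = m + 1 := ⟨n - 1, by omega⟩
  rw [HomologicalComplex.exactAt_iff' _ m (m + 1) (m + 1 + 1) (by simp) (by simp),
    ShortComplex.exact_iff_epi_kernel_lift]
  haveI : Epi (P₂.map (g m)) := by
    by_cases hm : m < c
    · haveI := hg m
      have h0 : IsZero (Z (m + 1)) := by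
        refine IsZero.of_epi_eq_zero (g m) ?_
        exact (C.isZero_of_isStrictlyGE c m hm).eq_of_src _ _
      exact epi_of_target_iso_zero _ (P₂.map_isZero h0).isoZero
    · obtain ⟨k, rfl⟩ : ∃ k : ℕ, m = c + k := ⟨(m - c).toNat, by omega⟩
      exact 𝒜.epi _ (hS (c + k)) (hZ k 2 (by omega)) (𝒜.mono 2 N _ (by omega) (hmem _))
  have h1 : kernel.lift ((P₂.mapHomologicalComplex (ComplexShape.up ℤ)).obj C |>.d (m + 1) (m + 1 + 1))
      (((P₂.mapHomologicalComplex (ComplexShape.up ℤ)).obj C).d m (m + 1)) (HomologicalComplex.d_comp_d _ _ _ _) =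
      P₂.map (g m) ≫ kernelComparison (C.d (m + 1) (m + 1 + 1)) P₂ :=
    (map_lift_kernelComparison _ _ (hlift m)).symm
  show Epi (kernel.lift _ _ _)
  erw [h1]
  infer_instance

variable [HasDerivedCategory.{max u₂ v₂} E₂]

set_option maxHeartbeats 4000000 in
/-- The comparison of units in one degree. -/
theorem quasiIsoAt_transpose (hu : UnitQuasiIso adj₁) (N : ℕ)
    (hF : ∀ J : E₁, Injective J → 𝒜.mem N (F.obj J)) (hψ : ∀ J : E₁, Injective J → IsIso (ψ adj₁ adj₂ e J))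
    (I : CochainComplex B ℤ) (a : ℤ) [I.IsStrictlyGE a] (hI : ∀ n, Injective (I.X n))
    (J : CochainComplex E₂ ℤ) (b : ℤ) [J.IsStrictlyGE b] (hJ : ∀ n, Injective (J.X n))
    (φ : (T₂.mapHomologicalComplex (ComplexShape.up ℤ)).obj I ⟶ J) [QuasiIso φ] (q : ℤ)
    (hq : q + 3 ≤ min (a - 1) b + N) : QuasiIsoAt (transpose adj₂ φ) q := by
  let Fc := F.mapHomologicalComplex (ComplexShape.up ℤ)
  let Pc := P₂.mapHomologicalComplex (ComplexShape.up ℤ)
  obtain ⟨J₁, φ₁, hφ₁, hJ₁', hJ₁⟩ := CochainComplex.Plus.modelCategoryQuillen.exists_quasiIso_injective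
    ((T₁.mapHomologicalComplex (ComplexShape.up ℤ)).obj I) a
  haveI : QuasiIso φ₁ := hφ₁
  haveI u₁q : QuasiIso (transpose adj₁ φ₁) := hu I a inferInstance hI J₁ a hJ₁ hJ₁' φ₁ inferInstance
  haveI : J.IsKInjective := CochainComplex.isKInjective_of_injective J b
  let eC : (T₂.mapHomologicalComplex (ComplexShape.up ℤ)).obj I ≅
      Fc.obj ((T₁.mapHomologicalComplex (ComplexShape.up ℤ)).obj I) :=
    HomologicalComplex.Hom.isoOfComponents (fun n => (e.app (I.X n)).symm)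
      (fun i j _ => (e.inv.naturality (I.d i j)).symm)
  let φ' : (T₂.mapHomologicalComplex (ComplexShape.up ℤ)).obj I ⟶ Fc.obj J₁ := eC.hom ≫ Fc.map φ₁
  haveI : QuasiIso φ' := inferInstanceAs (QuasiIso (eC.hom ≫ Fc.map φ₁))
  obtain ⟨h, hh⟩ := Q_surjective (inv (DerivedCategory.Q.map φ') ≫ DerivedCategory.Q.map φ)
  haveI hhq : QuasiIso h := by
    rw [← DerivedCategory.isIso_Q_map_iff_quasiIso, hh]
    infer_instance
  obtain ⟨k⟩ := Q_injective (f := φ' ≫ h) (f' := φ) (by rw [Functor.map_comp, hh, IsIso.hom_inv_id_assoc])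
  obtain ⟨k'⟩ := homotopy_transpose adj₂ k
  let ψc : (P₁.mapHomologicalComplex (ComplexShape.up ℤ)).obj J₁ ⟶ Pc.obj (Fc.obj J₁) :=
    { f := fun n => ψ adj₁ adj₂ e (J₁.X n)
      comm' := fun i j _ => (ψ_natural adj₁ adj₂ e (J₁.d i j)).symm }
  haveI : IsIso ψc := by
    haveI : ∀ n, IsIso (ψc.f n) := fun n => hψ _ (hJ₁' n)
    exact HomologicalComplex.Hom.isIso_of_components _
  have heq : transpose adj₂ (φ' ≫ h) = (transpose adj₁ φ₁ ≫ ψc) ≫ Pc.map h := by
    ext n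
    refine (adj₂.homEquiv_naturality_right _ _).trans ?_
    exact congrArg (fun t => t ≫ P₂.map (h.f n)) (homEquiv_ψ adj₁ adj₂ e (φ₁.f n)).symm
  rw [quasiIsoAt_iff_isIso_homologyMap, ← k'.homologyMap_eq, heq, HomologicalComplex.homologyMap_comp]
  haveI : IsIso (HomologicalComplex.homologyMap (transpose adj₁ φ₁ ≫ ψc) q) :=
    (quasiIsoAt_iff_isIso_homologyMap _ q).1 inferInstance
  let C := mappingCone h
  let c := min (a - 1) b
  haveI : CochainComplex.IsStrictlyGE (Fc.obj J₁) a := inferInstanceAs (CochainComplex.IsStrictlyGE ((F.mapHomologicalComplex (ComplexShape.up ℤ)).obj J₁) a)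
  haveI hCge : CochainComplex.IsStrictlyGE C c := by
    rw [CochainComplex.isStrictlyGE_iff]
    intro i hi
    refine IsZero.of_iso ?_ (HomologicalComplex.homotopyCofiber.XIsoBiprod h i (i + 1) (by simp))
    rw [biprod_isZero_iff]
    exact ⟨CochainComplex.isZero_of_isStrictlyGE (Fc.obj J₁) a _ (by omega), J.isZero_of_isStrictlyGE b _ (by omega)⟩
  have hC : ∀ n, C.ExactAt n := (PC.quasiIso_iff_forall_exactAt h).1 hhq
  have hmem : ∀ n, 𝒜.mem N (C.X n) := fun n =>
    𝒜.iso N _ _ (HomologicalComplex.homotopyCofiber.XIsoBiprod h n (n + 1) (by simp)).symm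
      (𝒜.biprod N _ _ (hF _ (hJ₁' _)) (𝒜.inj _ N (hJ n)))
  have hP : ∀ n, n + 2 ≤ c + N → (mappingCone (Pc.map h)).ExactAt n := fun n hn =>
    (exactAt_map adj₂ 𝒜 C c hC N hmem n hn).of_iso (mappingCone.mapHomologicalComplexIso h P₂)
  haveI := PC.epi_homologyMap_of_exactAt (Pc.map h) (hP q (by omega))
  haveI := PC.mono_homologyMap_of_exactAt (Pc.map h) (show q - 1 + 1 = q by omega) (hP (q - 1) (by omega))
  haveI : IsIso (HomologicalComplex.homologyMap (Pc.map h) q) := isIso_of_mono_of_epi _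
  infer_instance

end Compare

end GrothLib.HypDesc25
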