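import Groth.Agent.Lib.HypDesc25.Cons
import Groth.Agent.Lib.CohDesc25.Cols

/-!
# Levels of an inverse image along a map of families
-/

set_option autoImplicit false
set_option backward.isDefEq.respectTransparency false
set_option backward.isDefEq.respectTransparency.types false
set_option linter.unusedSectionVars false
set_option linter.style.haveILetI false
set_option maxHeartbeats 1000000

universe u

open CategoryTheory CategoryTheory.Limits Opposite Pseudofunctor Pseudofunctor.CoGrothendieck TopologicalSpace Simplicial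

namespace GrothLib.HypDesc25

open FibDesc GrothLib.CohDesc25 GrothLib.CohDesc25.FamMap

/-- Direct image of abelian sheaves. -/
noncomputable abbrev pushO {X X' : TopCat.{u}} (f : X ⟶ X') :
    Sheaf (Opens.grothendieckTopology X) AddCommGrpCat.{u} ⥤ Sheaf (Opens.grothendieckTopology X') AddCommGrpCat.{u} :=
  (Opens.map f).sheafPushforwardContinuous AddCommGrpCat.{u} _ _

theorem injective_pushO {X X' : TopCat.{u}} (f : X ⟶ X') (A : Sheaf (Opens.grothendieckTopology X) AddCommGrpCat.{u})
    [Injective A] : Injective ((pushO f).obj A) :=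
  haveI := preservesFiniteLimits_pullback (J := Opens.grothendieckTopology X') (K := Opens.grothendieckTopology X)
    (Opens.map f)
  Injective.injective_of_adjoint ((Opens.map f).sheafAdjunctionContinuous AddCommGrpCat.{u}
    (Opens.grothendieckTopology X') (Opens.grothendieckTopology X)) A

/-- Sheaves along an isomorphism of spaces. -/
noncomputable def pushOInvIso {X X' : TopCat.{u}} (f : X ⟶ X') [IsIso f]
    (A : Sheaf (Opens.grothendieckTopology X) AddCommGrpCat.{u}) : (pushO (inv f)).obj ((pushO f).obj A) ≅ A :=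
  (sheafToPresheaf _ _).preimageIso (NatIso.ofComponents
    (fun U => A.obj.mapIso (eqToIso (congrArg op (by
      apply Opens.ext
      ext x
      change inv f (f x) ∈ U.unop ↔ x ∈ U.unop
      rw [show inv f (f x) = x from ConcreteCategory.congr_hom (IsIso.hom_inv_id f) x]))))
    (fun {U U'} g => by
      refine (A.obj.map_comp _ _).symm.trans (Eq.trans ?_ (A.obj.map_comp _ _))
      exact congrArg A.obj.map (Subsingleton.elim _ _)))

theorem injective_of_pushO {X X' : TopCat.{u}} (f : X ⟶ X') [IsIso f]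
    (A : Sheaf (Opens.grothendieckTopology X) AddCommGrpCat.{u}) [Injective ((pushO f).obj A)] : Injective A :=
  haveI := injective_pushO (inv f) ((pushO f).obj A)
  Injective.of_iso (pushOInvIso f A) this

variable {D₁ D₂ : Type} [SmallCategory D₁] [SmallCategory D₂]

/-- A level of a sheaf on the total site. -/
noncomputable abbrev levD (Y : (WithInitial D₁)ᵒᵖ ⥤ TopCat.{u}) (j : D₁ᵒᵖ) :
    DAb Y ⥤ Sheaf (Opens.grothendieckTopology (Y.obj ((toAug D₁).obj j))) AddCommGrpCat.{u} :=
  haveI := GrothLib.FibSite.isContinuous_ι (isPreFibSite_part Y) j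
  (ι (part (topAug Y)) j).sheafPushforwardContinuous AddCommGrpCat.{u}
    (Opens.grothendieckTopology (Y.obj ((toAug D₁).obj j))) (totPart (topAug Y) (topAugTop Y))

theorem exact_levD (Y : (WithInitial D₁)ᵒᵖ ⥤ TopCat.{u}) (j : D₁ᵒᵖ) :
    PreservesFiniteLimits (levD Y j) ∧ PreservesFiniteColimits (levD Y j) :=
  haveI := GrothLib.FibSite.isCocontinuous_ι (isPreFibSite_part Y) j
  preservesFinite_restriction _

theorem injective_levD (Y : (WithInitial D₁)ᵒᵖ ⥤ TopCat.{u}) (j : D₁ᵒᵖ) (J : DAb Y) [Injective J] :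
    Injective ((levD Y j).obj J) :=
  haveI := GrothLib.FibSite.isContinuous_ι (isPreFibSite_part Y) (op j.unop)
  haveI := GrothLib.FibSite.isCocontinuous_ι (isPreFibSite_part Y) (op j.unop)
  injective_restriction_of_disjFiltered (ι (part (topAug Y)) (op j.unop))
    (fun X => FamMap.disjFiltered_ι (n := j.unop) X) J

variable {pr : D₂ ⥤ D₁} {Y : (WithInitial D₁)ᵒᵖ ⥤ TopCat.{u}} (M : FamMap pr Y) (E : DAb Y) (j : D₂ᵒᵖ)

theorem mA_res {X X' : ∫ᶜ (part (topAug M.Z))} {c c' : ∫ᶜ (prF pr Y)} (a : X' ⟶ X) (b : X ⟶ M.v.obj c)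
    (b' : X' ⟶ M.v.obj c') (t : c' ⟶ c) (h : a.base ≫ b.base = b'.base ≫ t.base)
    (e : E.obj.obj (op ((q pr Y).obj c))) :
    (M.pullM.obj E).obj.map a.op (M.mA E b e) = M.mA E b' (E.obj.map ((q pr Y).map t).op e) := by
  refine (map_atHom (K := totPart (topAug M.Z) (topAugTop M.Z)) M.v (((q pr Y).sheafPushforwardContinuous AddCommGrpCat.{u} (prTot pr Y) (totPart (topAug Y) (topAugTop Y))).obj E) a b e).trans ?_
  refine Eq.trans ?_ (atHom_res (K := totPart (topAug M.Z) (topAugTop M.Z)) M.v (((q pr Y).sheafPushforwardContinuous AddCommGrpCat.{u} (prTot pr Y) (totPart (topAug Y) (topAugTop Y))).obj E) t b' e).symm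
  exact congrArg (fun r => M.mA E r e) (pHom_ext M.Z h)

/-- Sections of a level, seen in the inverse image. -/
noncomputable abbrev ηL (U : Opens (Y.obj ((toAug D₁).obj (pr.op.obj j)))) :
    E.obj.obj (op (pObj Y (pr.op.obj j) U)) →+
      (M.pullM.obj E).obj.obj (op (pObj M.Z j ((Opens.map (M.zπ j)).obj U))) :=
  M.mA E (c := rObj pr Y j U) (𝟙 _)

theorem ηL_res {U U' : Opens (Y.obj ((toAug D₁).obj (pr.op.obj j)))} (h : U' ≤ U)
    (e : E.obj.obj (op (pObj Y (pr.op.obj j) U))) :
    ηL M E j U' (E.obj.map (pInc h).op e) =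
      (M.pullM.obj E).obj.map (pInc (Y := M.Z) (show (Opens.map (M.zπ j)).obj U' ≤ (Opens.map (M.zπ j)).obj U from
        fun z hz => h hz)).op (ηL M E j U e) := by
  let t : rObj pr Y j U' ⟶ rObj pr Y j U := (ι (prF pr Y) j).map (homOfLE h : U' ⟶ U)
  refine Eq.trans ?_ (mA_res M E (c := rObj pr Y j U) (c' := rObj pr Y j U') _ (𝟙 _) (𝟙 _) t ?_ e).symm
  · refine congrArg (ηL M E j U') (congrArg (fun r => E.obj.map r e) ?_)
    exact Quiver.Hom.unop_inj (pHom_ext Y (pr.op.map_id j).symm)
  · exact (Category.comp_id _).trans (Category.id_comp _).symm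

/-- The comparison of levels. -/
noncomputable def ηLev : (levD Y (pr.op.obj j)).obj E ⟶ (pushO (M.zπ j)).obj ((levD M.Z j).obj (M.pullM.obj E)) :=
  ObjectProperty.homMk
    { app := fun U => AddCommGrpCat.ofHom (ηL M E j U.unop)
      naturality := fun U U' g => by
        ext e
        exact ηL_res M E j (le_of_hom (X := Y.obj ((toAug D₁).obj (pr.op.obj j))) g.unop) e }

variable [IsIso (M.π j)]

theorem π_inv_apply (y : Y.obj ((toAug D₁).obj (pr.op.obj j))) : M.π j (inv (M.π j) y) = y :=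
  ConcreteCategory.congr_hom (IsIso.inv_hom_id (M.π j)) y

theorem isIso_ηLev : IsIso (ηLev M E j) := by
  have hinj : Sheaf.IsLocallyInjective (ηLev M E j) := ⟨fun {U} z z' he => by
    intro y hy
    let U₀ : Opens (Y.obj ((toAug D₁).obj (pr.op.obj j))) := U.unop
    let x : M.Z.obj ((toAug D₂).obj j) := inv (M.π j) y
    have hx : M.π j x = y := π_inv_apply M j y
    have h0 : M.mA E (c := rObj pr Y j U₀) (pInc (Y := M.Z) (le_rfl : (Opens.map (M.zπ j)).obj U₀ ≤ _)) (z - z') = 0 := by
      refine Eq.trans (congrArg (fun r => M.mA E (c := rObj pr Y j U₀) r (z - z')) (pHom_ext M.Z (h := 𝟙 _) rfl)) ?_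
      exact (map_sub (ηL M E j U₀) z z').trans (sub_eq_zero.2 he)
    obtain ⟨W, hW, c, hc, h1⟩ := M.local_v_zero E (W' := U₀) (z - z') le_rfl h0 x (show M.π j x ∈ U₀ from hx ▸ hy)
    refine ⟨W ⊓ U₀, homOfLE inf_le_right, ?_, hx ▸ hW, hy⟩
    refine sub_eq_zero.1 ((map_sub _ _ _).symm.trans ?_)
    refine Eq.trans ?_ ((congrArg (E.obj.map (pInc (inf_le_left : W ⊓ U₀ ≤ W)).op) h1).trans (map_zero _))
    refine Eq.trans ?_ (Functor.map_comp_apply E.obj _ _ _)
    refine congrArg (fun r => E.obj.map r (z - z')) (Quiver.Hom.unop_inj (pHom_ext Y ?_))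
    show 𝟙 _ = 𝟙 _ ≫ pr.op.map c.base
    rw [hc, CategoryTheory.Functor.map_id, Category.comp_id]⟩
  have hsurj : Sheaf.IsLocallySurjective (ηLev M E j) := ⟨fun {U} z => by
    intro y hy
    let x : M.Z.obj ((toAug D₂).obj j) := inv (M.π j) y
    have hx : M.π j x = y := π_inv_apply M j y
    obtain ⟨W, h, hxW, W', g, hW, e⟩ := M.local_v E (j := j) (U := (Opens.map (M.zπ j)).obj U) z x (show M.π j x ∈ U from hx ▸ hy)
    let U₂ : Opens (Y.obj ((toAug D₁).obj (pr.op.obj j))) := (Opens.map (inv (M.π j))).obj W ⊓ U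
    have h2 : U₂ ≤ W' := fun v hv => π_inv_apply M j v ▸ (show M.π j (inv (M.π j) v) ∈ W' from hW hv.1)
    have h3 : (Opens.map (M.zπ j)).obj U₂ ≤ W := fun w hw => by
      have h4 : inv (M.π j) (M.π j w) = w := ConcreteCategory.congr_hom (IsIso.hom_inv_id (M.π j)) w
      exact h4 ▸ (show inv (M.π j) (M.π j w) ∈ W from hw.1)
    refine ⟨U₂, homOfLE inf_le_right, ⟨E.obj.map (pInc h2).op g, ?_⟩, hxW, hy⟩
    refine (ηL_res M E j h2 g).trans ?_
    refine Eq.trans ?_ ((congrArg ((M.pullM.obj E).obj.map (pInc h3).op) e.symm).trans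
      (Functor.map_comp_apply (M.pullM.obj E).obj _ _ z).symm |>.trans ?_)
    · refine (map_atHom (K := totPart (topAug M.Z) (topAugTop M.Z)) M.v (((q pr Y).sheafPushforwardContinuous AddCommGrpCat.{u} (prTot pr Y) (totPart (topAug Y) (topAugTop Y))).obj E) (U := rObj pr Y j W') _ _ g).trans ?_
      refine Eq.trans ?_ (map_atHom (K := totPart (topAug M.Z) (topAugTop M.Z)) M.v (((q pr Y).sheafPushforwardContinuous AddCommGrpCat.{u} (prTot pr Y) (totPart (topAug Y) (topAugTop Y))).obj E) (U := rObj pr Y j W') _ _ g).symm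
      exact congrArg (fun r => M.mA E (c := rObj pr Y j W') r g) (pHom_ext M.Z rfl)
    · exact congrArg (fun r => (M.pullM.obj E).obj.map r z) (Quiver.Hom.unop_inj (pHom_ext M.Z (Category.comp_id _)))⟩
  exact (Sheaf.isLocallyBijective_iff_isIso _).1 ⟨hinj, hsurj⟩

theorem bijective_ηL (U : Opens (Y.obj ((toAug D₁).obj (pr.op.obj j)))) : Function.Bijective (ηL M E j U) := by
  haveI := isIso_ηLev M E j
  haveI : IsIso ((sheafToPresheaf _ _).map (ηLev M E j)) := inferInstance
  haveI : IsIso ((ηLev M E j).hom.app (op U)) :=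
    inferInstanceAs (IsIso (((sheafToPresheaf _ _).map (ηLev M E j)).app (op U)))
  exact (ConcreteCategory.isIso_iff_bijective _).1 (inferInstanceAs (IsIso ((ηLev M E j).hom.app (op U))))

theorem injective_levD_pullM [Injective E] : Injective ((levD M.Z j).obj (M.pullM.obj E)) := by
  haveI := isIso_ηLev M E j
  haveI := injective_levD Y (pr.op.obj j) E
  haveI : Injective ((pushO (M.zπ j)).obj ((levD M.Z j).obj (M.pullM.obj E))) :=
    Injective.of_iso (asIso (ηLev M E j)) inferInstance
  haveI : IsIso (M.zπ j) := inferInstanceAs (IsIso (M.π j))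
  exact injective_of_pushO (M.zπ j) _

end GrothLib.HypDesc25
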