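import Groth.Agent.Lib.HypDesc25.Cosk
import Groth.Agent.Lib.CohDesc25.Univ
import Mathlib.CategoryTheory.Limits.Constructions.Over.Basic
import Mathlib.Topology.Category.TopCat.Limits.Basic

/-!
# Successive coskeleta of a hypercovering differ by maps universally of cohomological descent
-/

set_option autoImplicit false
set_option backward.isDefEq.respectTransparency false
set_option backward.isDefEq.respectTransparency.types false
set_option linter.unusedSectionVars false
set_option linter.style.haveILetI false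

universe u

open CategoryTheory CategoryTheory.Limits Opposite Simplicial

namespace GrothLib.HypDesc25

open GrothLib.CohDesc25

/-- An isomorphism is universally of cohomological descent. -/
theorem isUnivCohDescentMap_of_isIso {X S : TopCat.{u}} (f : X ⟶ S) [IsIso f] : FibDesc.IsUnivCohDescentMap f :=
  isUnivCohDescentMap_of_section f (inv f) (IsIso.inv_hom_id f)

/-- A space of compatible lifts along a map universally of descent. -/
theorem exists_lifts {B M E : TopCat.{u}} (e : E ⟶ M) (he : FibDesc.IsUnivCohDescentMap e) {ι : Type}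
    (q : ι → (B ⟶ M)) (s : Finset ι) :
    ∃ (P : TopCat.{u}) (p : P ⟶ B) (l : ∀ i ∈ s, P ⟶ E),
      FibDesc.IsUnivCohDescentMap p ∧ (∀ i hi, l i hi ≫ e = p ≫ q i) ∧
      ∀ (T : TopCat.{u}) (g : T ⟶ B) (m : ∀ i ∈ s, T ⟶ E), (∀ i hi, m i hi ≫ e = g ≫ q i) →
        ∃! G : T ⟶ P, G ≫ p = g ∧ ∀ i hi, G ≫ l i hi = m i hi := by
  classical
  induction s using Finset.induction with
  | empty =>
    refine ⟨B, 𝟙 B, fun i hi => absurd hi (by simp), isUnivCohDescentMap_of_isIso _, fun i hi => absurd hi (by simp),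
      fun T g m _ => ⟨g, ⟨Category.comp_id _, fun i hi => absurd hi (by simp)⟩, fun G hG => ?_⟩⟩
    exact (Category.comp_id G).symm.trans hG.1
  | insert a s ha ih =>
    obtain ⟨P, p, l, hp, hl, hu⟩ := ih
    have hne : ∀ i, i ∈ insert a s → i ≠ a → i ∈ s := fun i hi h => (Finset.mem_insert.1 hi).resolve_left h
    let l' : ∀ i ∈ insert a s, pullback (p ≫ q a) e ⟶ E := fun i hi =>
      if h : i = a then pullback.snd (p ≫ q a) e else pullback.fst (p ≫ q a) e ≫ l i (hne i hi h)
    refine ⟨pullback (p ≫ q a) e, pullback.fst (p ≫ q a) e ≫ p, l',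
      isUnivCohDescentMap_comp _ _ (isUnivCohDescentMap_of_isPullback (IsPullback.of_hasPullback (p ≫ q a) e).flip he) hp,
      fun i hi => ?_, fun T g m hm => ?_⟩
    · by_cases h : i = a
      · subst h
        simp only [l', dif_pos]
        rw [← pullback.condition, Category.assoc]
      · simp only [l', dif_neg h, Category.assoc, hl]
    · obtain ⟨G₀, ⟨hG₀, hG₀'⟩, huniq⟩ := hu T g (fun i hi => m i (Finset.mem_insert_of_mem hi)) (fun i hi => hm i _)
      refine ⟨pullback.lift G₀ (m a (Finset.mem_insert_self a s)) (by rw [hm, ← Category.assoc, hG₀]), ⟨?_, fun i hi => ?_⟩, fun G hG => ?_⟩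
      · rw [pullback.lift_fst_assoc, hG₀]
      · by_cases h : i = a
        · subst h
          simp only [l', dif_pos, pullback.lift_snd]
        · simp only [l', dif_neg h, pullback.lift_fst_assoc, hG₀']
      · refine pullback.hom_ext ?_ ?_
        · rw [pullback.lift_fst]
          refine huniq _ ⟨(Category.assoc _ _ _).trans hG.1, fun i hi => ?_⟩
          have hia : i ≠ a := fun h => ha (h ▸ hi)
          have h2 := hG.2 i (Finset.mem_insert_of_mem hi)
          simp only [l', dif_neg hia] at h2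
          rw [Category.assoc]
          exact h2
        · rw [pullback.lift_snd]
          have h2 := hG.2 a (Finset.mem_insert_self a s)
          simp only [l', dif_pos] at h2
          exact h2

variable {S : TopCat.{u}}
  [∀ (n : ℕ) (G : (SimplexCategory.Truncated n)ᵒᵖ ⥤ Over S),
    (SimplexCategory.Truncated.inclusion n).op.HasRightKanExtension G]

/-- The maps between successive coskeleta of a hypercovering are universally of descent. -/
theorem isUnivCohDescentMap_ckP (K : SimplicialObject (Over S)) (n : ℕ)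
    (h : FibDesc.IsUnivCohDescentMap ((ckU n K).app (op ⦋n + 1⦌)).left) (k : SimplexCategory) :
    FibDesc.IsUnivCohDescentMap ((ckP n K).app (op k)).left := by
  classical
  haveI : Finite {θ : ⦋n + 1⦌ ⟶ k // Mono θ} := by
    haveI : Finite (⦋n + 1⦌ ⟶ k) := Finite.of_injective (fun θ => (θ.toOrderHom : Fin (n + 2) → Fin (k.len + 1)))
      (fun θ θ' e => SimplexCategory.Hom.ext _ _ (OrderHom.ext _ _ e))
    infer_instance
  haveI := Fintype.ofFinite {θ : ⦋n + 1⦌ ⟶ k // Mono θ}
  haveI hu : IsIso ((ckU (n + 1) K).app (op ⦋n + 1⦌)) := isIso_ckU (n + 1) K (n + 1) le_rfl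
  let X := (ck (n + 1) K).obj (op k)
  let B := (ck n K).obj (op k)
  let π : X ⟶ B := (ckP n K).app (op k)
  let e := (ckU n K).app (op ⦋n + 1⦌)
  obtain ⟨P, p, l, hp, hl, hP⟩ := exists_lifts e.left h
    (fun θ : {θ : ⦋n + 1⦌ ⟶ k // Mono θ} => ((ck n K).map θ.1.op).left) Finset.univ
  let lX : {θ : ⦋n + 1⦌ ⟶ k // Mono θ} → (X ⟶ K.obj (op ⦋n + 1⦌)) := fun θ =>
    (ck (n + 1) K).map θ.1.op ≫ inv ((ckU (n + 1) K).app (op ⦋n + 1⦌))
  have hlX : ∀ θ, lX θ ≫ e = π ≫ (ck n K).map θ.1.op := fun θ => by
    simp only [lX, e, π]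
    rw [← (ckP n K).naturality θ.1.op, ← ckU_ckP n K, NatTrans.comp_app, Category.assoc, IsIso.inv_hom_id_assoc]
  obtain ⟨g, ⟨hg, hg'⟩, -⟩ := hP X.left π.left (fun θ _ => (lX θ).left)
    (fun θ _ => congrArg CommaMorphism.left (hlX θ))
  let PO : Over S := Over.mk (p ≫ B.hom)
  let gP : PO ⟶ B := Over.homMk p rfl
  let lP : ∀ θ : ⦋n + 1⦌ ⟶ k, Mono θ → (PO ⟶ K.obj (op ⦋n + 1⦌)) := fun θ hθ =>
    Over.homMk (l ⟨θ, hθ⟩ (Finset.mem_univ _)) (by
      show _ = p ≫ B.hom
      rw [← Over.w e, ← Category.assoc, hl, Category.assoc, Over.w ((ck n K).map θ.op)])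
  obtain ⟨G, hG, hG'⟩ := ckP_exists n K gP lP (fun θ hθ => Over.OverMorphism.ext (hl _ _))
  have h1 : G.left ≫ g = 𝟙 P := by
    refine (hP P p l hl).unique ⟨?_, fun θ hθ => ?_⟩ ⟨Category.id_comp _, fun θ hθ => Category.id_comp _⟩
    · rw [Category.assoc, hg]
      exact congrArg CommaMorphism.left hG
    · rw [Category.assoc, hg']
      have h3 : G ≫ lX θ = lP θ.1 θ.2 := by
        simp only [lX]
        rw [← Category.assoc, hG' θ.1 θ.2, Category.assoc, IsIso.hom_inv_id, Category.comp_id]
      exact congrArg CommaMorphism.left h3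
  let gO : X ⟶ PO := Over.homMk g (by
    show g ≫ p ≫ B.hom = _
    rw [← Category.assoc, hg, Over.w π])
  have h2 : gO ≫ G = 𝟙 X := by
    refine ckP_ext n K _ _ ?_ fun θ hθ => ?_
    · rw [Category.assoc, hG, Category.id_comp]
      exact Over.OverMorphism.ext hg
    · rw [Category.assoc, hG' θ hθ, Category.id_comp, ← cancel_mono (inv ((ckU (n + 1) K).app (op ⦋n + 1⦌))),
        Category.assoc, Category.assoc, IsIso.hom_inv_id, Category.comp_id]
      exact Over.OverMorphism.ext (hg' ⟨θ, hθ⟩ (Finset.mem_univ _))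
  haveI : IsIso g := ⟨G.left, congrArg CommaMorphism.left h2, h1⟩
  show FibDesc.IsUnivCohDescentMap π.left
  rw [← hg]
  exact isUnivCohDescentMap_comp g p (isUnivCohDescentMap_of_isIso g) hp

end GrothLib.HypDesc25
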