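import Groth.Agent.Lib.HypDesc25.Retract
import Groth.Agent.Lib.HypDesc25.Lifts

/-!
# Hypercoverings for universal cohomological descent are of cohomological descent
-/

set_option autoImplicit false
set_option backward.isDefEq.respectTransparency false
set_option backward.isDefEq.respectTransparency.types false
set_option linter.unusedSectionVars false
set_option linter.style.haveILetI false
set_option maxHeartbeats 1000000

universe u

open CategoryTheory CategoryTheory.Limits Opposite TopologicalSpace Simplicial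

namespace GrothLib.HypDesc25

open FibDesc GrothLib.CohDesc25 GrothLib.PDesc25

variable {S : TopCat.{u}}
  [∀ (n : ℕ) (G : (SimplexCategory.Truncated n)ᵒᵖ ⥤ Over S),
    (SimplexCategory.Truncated.inclusion n).op.HasRightKanExtension G]
  (K : SimplicialObject (Over S))

/-- A vertex of a level of the zeroth coskeleton. -/
noncomputable def ck0π (k : SimplexCategory) (i : Fin (k.len + 1)) : (ck 0 K).obj (op k) ⟶ K.obj (op ⦋0⦌) :=
  ckVal 0 K (𝟙 _) 0 le_rfl (vtx i)

theorem ck0π_map {k k' : SimplexCategory} (a : k' ⟶ k) (i : Fin (k'.len + 1)) :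
    (ck 0 K).map a.op ≫ ck0π K k' i = ck0π K k (a.toOrderHom i) := by
  simp only [ck0π, ckVal, Category.id_comp]
  rw [← Category.assoc, ← Functor.map_comp, ← op_comp]
  rfl

/-- The zeroth coskeleton as a nerve, in one degree. -/
noncomputable def ck0Hom (k : SimplexCategory) :
    ((ck 0 K).obj (op k)).left ⟶ cN (K.obj (op ⦋0⦌)).hom k :=
  WidePullback.lift ((ck 0 K).obj (op k)).hom (fun i => (ck0π K k i).left) (fun i => Over.w (ck0π K k i))

theorem ck0Hom_π (k : SimplexCategory) (i : Fin (k.len + 1)) :
    ck0Hom K k ≫ cπ (K.obj (op ⦋0⦌)).hom k i = (ck0π K k i).left :=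
  WidePullback.lift_π _ _ _ _ _

theorem ck0Hom_base (k : SimplexCategory) :
    ck0Hom K k ≫ cBase (K.obj (op ⦋0⦌)).hom k = ((ck 0 K).obj (op k)).hom :=
  WidePullback.lift_base _ _ _ _

theorem isIso_ck0Hom (k : SimplexCategory) : IsIso (ck0Hom K k) := by
  let f := (K.obj (op ⦋0⦌)).hom
  let T : Over S := Over.mk (cBase f k)
  let P : ∀ i : Fin (k.len + 1), T ⟶ K.obj (op ⦋0⦌) := fun i =>
    Over.homMk (cπ f k i) (WidePullback.π_arrow (fun _ : Fin (k.len + 1) => f) i)
  obtain ⟨g, hg⟩ := ck_exists 0 K (T := T) (k := k)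
    (fun j _ θ => P (θ.toOrderHom 0) ≫ K.map (SimplexCategory.const ⦋j⦌ ⦋0⦌ 0).op) (fun j l hj hl α θ => by
      obtain rfl := Nat.le_zero.1 hj
      obtain rfl := Nat.le_zero.1 hl
      have e : ∀ t : ⦋0⦌ ⟶ ⦋0⦌, t = 𝟙 _ := fun t => SimplexCategory.Hom.ext _ _ (OrderHom.ext _ _ (funext fun r =>
        (Fin.fin_one_eq_zero _).trans (Fin.fin_one_eq_zero _).symm))
      rw [e α, e (SimplexCategory.const _ _ _), Category.id_comp]
      simp)
  have hπ : ∀ i, g ≫ ck0π K k i = P i := fun i => by
    rw [ck0π, ckVal, Category.id_comp, ← Category.assoc, hg 0 le_rfl (vtx i), Category.assoc, ckU_ε, Category.comp_id]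
    rw [show SimplexCategory.const ⦋0⦌ ⦋0⦌ 0 = 𝟙 _ from SimplexCategory.Hom.ext _ _ (OrderHom.ext _ _ (funext fun r =>
      (Fin.fin_one_eq_zero _).trans (Fin.fin_one_eq_zero _).symm)), op_id, CategoryTheory.Functor.map_id, Category.comp_id]
    rfl
  refine ⟨g.left, ?_, ?_⟩
  · let h : (ck 0 K).obj (op k) ⟶ T := Over.homMk (ck0Hom K k) (ck0Hom_base K k)
    have h2 : h ≫ g = 𝟙 _ := by
      refine ck_ext 0 K _ _ fun j hj θ => ?_
      obtain rfl := Nat.le_zero.1 hj
      haveI := isIso_ckε 0 K 0 le_rfl
      rw [← cancel_mono (ckε 0 K 0 le_rfl), Category.id_comp]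
      have hθ : vtx (θ.toOrderHom 0) = θ := SimplexCategory.Hom.ext _ _ (OrderHom.ext _ _ (funext fun r => by
        rw [Fin.fin_one_eq_zero r]
        rfl))
      have h3 := hπ (θ.toOrderHom 0)
      rw [ck0π, ckVal, Category.id_comp, hθ] at h3
      simp only [Category.assoc]
      rw [h3]
      apply Over.OverMorphism.ext
      refine (ck0Hom_π K k _).trans ?_
      rw [ck0π, ckVal, Category.id_comp, hθ]
    exact congrArg CommaMorphism.left h2
  · refine WidePullback.hom_ext (C := TopCat.{u}) _ _ _ (fun i => ?_) ?_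
    · refine (Category.assoc _ _ _).trans ((congrArg (fun t => g.left ≫ t) (ck0Hom_π K k i)).trans ?_)
      exact (congrArg CommaMorphism.left (hπ i)).trans (Category.id_comp _).symm
    · refine (Category.assoc _ _ _).trans ((congrArg (fun t => g.left ≫ t) (ck0Hom_base K k)).trans ?_)
      exact (Over.w g).trans (Category.id_comp _).symm

/-- The zeroth coskeleton is a nerve. -/
noncomputable def ck0Iso : cechAug (K.obj (op ⦋0⦌)).hom ≅ fam (ck 0 K) := by
  haveI := isIso_ck0Hom K
  refine NatIso.ofComponents (fun x => match x with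
    | op (.of m) => (asIso (ck0Hom K m)).symm
    | op .star => Iso.refl _) ?_
  intro x y g
  obtain ⟨x⟩ := x
  obtain ⟨y⟩ := y
  obtain ⟨g, rfl⟩ : ∃ g' : y ⟶ x, g = g'.op := ⟨g.unop, rfl⟩
  cases y with
  | star =>
    cases x with
    | star =>
      have hg : g.op = 𝟙 (bot SimplexCategory) := toBot_unique _ _
      rw [hg, CategoryTheory.Functor.map_id, CategoryTheory.Functor.map_id]
      exact (Category.id_comp _).trans (Category.comp_id _).symm
    | of m =>
      have hg : g.op = toBot ((toAug SimplexCategory).obj (op m)) := toBot_unique _ _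
      rw [hg]
      refine (Category.comp_id _).trans ?_
      exact ((IsIso.inv_comp_eq _).2 (ck0Hom_base K m).symm).symm
  | of m' =>
    cases x with
    | star => exact g.elim
    | of m =>
      let g' : m' ⟶ m := g
      show (cechAug (K.obj (op ⦋0⦌)).hom).map ((toAug SimplexCategory).map g'.op) ≫ inv (ck0Hom K m') =
        inv (ck0Hom K m) ≫ ((ck 0 K).map g'.op).left
      rw [IsIso.eq_inv_comp, ← Category.assoc, IsIso.comp_inv_eq]
      refine WidePullback.hom_ext (C := TopCat.{u}) _ _ _ (fun i => ?_) ?_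
      · refine (Category.assoc _ _ _).trans ?_
        refine (congrArg (fun t => ck0Hom K m ≫ t) (cech_map_π _ g' i)).trans ?_
        refine (ck0Hom_π K m _).trans ?_
        refine Eq.trans ?_ (Category.assoc _ _ _).symm
        refine Eq.trans ?_ (congrArg (fun t => ((ck 0 K).map g'.op).left ≫ t) (ck0Hom_π K m' i)).symm
        exact congrArg CommaMorphism.left (ck0π_map K g' i).symm
      · refine (Category.assoc _ _ _).trans ?_
        refine (congrArg (fun t => ck0Hom K m ≫ t) (cech_map_base _ g')).trans ?_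
        refine (ck0Hom_base K m).trans ?_
        refine Eq.trans ?_ (Category.assoc _ _ _).symm
        refine Eq.trans ?_ (congrArg (fun t => ((ck 0 K).map g'.op).left ≫ t) (ck0Hom_base K m')).symm
        exact (Over.w _).symm

section Step

variable (n : ℕ)

theorem π_indep {k m : SimplexCategory} (hk : k.len ≤ n) (α : k ⟶ m) (i i' : Fin (m.len + 1)) :
    cπ ((ckP n K).app (op m)).left m i ≫ ((ck (n + 1) K).map α.op).left =
      cπ ((ckP n K).app (op m)).left m i' ≫ ((ck (n + 1) K).map α.op).left := by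
  haveI : IsIso ((ckP n K).app (op ⦋k.len⦌)) := isIso_ckP n K k.len hk
  haveI : IsIso ((ckP n K).app (op k)).left :=
    inferInstanceAs (IsIso ((Over.forget S).map ((ckP n K).app (op ⦋k.len⦌))))
  rw [← cancel_mono ((ckP n K).app (op k)).left, Category.assoc, Category.assoc, ← Over.comp_left,
    (ckP n K).naturality α.op, Over.comp_left, ← Category.assoc, ← Category.assoc, WidePullback.π_arrow,
    WidePullback.π_arrow]

theorem π_change {k m : SimplexCategory} (hk : k.len ≤ n + 1) (hm : m.len ≤ n + 1) (α : k ⟶ m) :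
    cπ ((ckP n K).app (op m)).left m (α.toOrderHom 0) ≫ ((ck (n + 1) K).map α.op).left =
      cπ ((ckP n K).app (op m)).left m 0 ≫ ((ck (n + 1) K).map α.op).left := by
  by_cases h0 : α.toOrderHom 0 = 0
  · rw [h0]
  rcases Nat.lt_or_eq_of_le hk with hk' | hk'
  · exact π_indep K n (by omega) α _ _
  · obtain ⟨k⟩ := k
    obtain rfl : k = n + 1 := hk'
    have hα : ¬ Mono α := fun h => by
      haveI := h
      obtain ⟨m⟩ := m
      have h1 := SimplexCategory.len_le_of_mono α
      obtain rfl : m = n + 1 := le_antisymm hm h1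
      exact h0 (by rw [SimplexCategory.eq_id_of_mono α]; rfl)
    obtain ⟨a, γ, hγ⟩ := exists_σ_of_not_mono n α hα
    have e := π_indep K n (k := ⦋n⦌) le_rfl γ (α.toOrderHom 0) 0
    rw [show α.op = γ.op ≫ (SimplexCategory.σ a).op from congrArg Quiver.Hom.op hγ, Functor.map_comp, Over.comp_left,
      ← Category.assoc, ← Category.assoc, e]

/-- The retraction of the diagonal, in low degrees. -/
noncomputable def retPre : (SimplicialObject.truncation (n + 1)).obj (diagPow (ckP n K)) ⟶
    (SimplicialObject.truncation (n + 1)).obj K where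
  app x := (Over.homMk (cπ ((ckP n K).app (op x.unop.1)).left x.unop.1 0) (by
      show _ = cBase _ _ ≫ _
      refine Eq.trans ?_ (congrArg (fun t => t ≫ ((ck n K).obj (op x.unop.1)).hom)
        (WidePullback.π_arrow (fun _ : Fin (x.unop.1.len + 1) => ((ckP n K).app (op x.unop.1)).left) 0))
      refine Eq.trans ?_ (Category.assoc _ _ _).symm
      exact congrArg (fun t => cπ ((ckP n K).app (op x.unop.1)).left x.unop.1 0 ≫ t) (Over.w ((ckP n K).app (op x.unop.1))).symm) :
        (diagPow (ckP n K)).obj (op x.unop.1) ⟶ (ck (n + 1) K).obj (op x.unop.1)) ≫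
    ((SimplicialObject.coskAdj (n + 1)).counit.app ((SimplicialObject.truncation (n + 1)).obj K)).app x
  naturality x y g := by
    let α : y.unop.1 ⟶ x.unop.1 := (SimplexCategory.Truncated.inclusion (n + 1)).map g.unop
    refine Eq.trans ?_ (Category.assoc _ _ _).symm
    refine Eq.trans ?_ (congrArg (fun t => _ ≫ t)
      (((SimplicialObject.coskAdj (n + 1)).counit.app ((SimplicialObject.truncation (n + 1)).obj K)).naturality g))
    refine (Category.assoc _ _ _).symm.trans (Eq.trans ?_ (Category.assoc _ _ _))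
    refine congrArg (fun t => t ≫ _) ?_
    apply Over.OverMorphism.ext
    show powMap (ckP n K) α α ≫ cπ ((ckP n K).app (op y.unop.1)).left y.unop.1 0 =
      cπ ((ckP n K).app (op x.unop.1)).left x.unop.1 0 ≫ ((ck (n + 1) K).map α.op).left
    rw [powMap_π]
    exact π_change K n y.unop.2 x.unop.2 α

/-- The retraction of the diagonal. -/
noncomputable def retHom : diagPow (ckP n K) ⟶ ck (n + 1) K :=
  (SimplicialObject.coskAdj (n + 1)).homEquiv _ _ (retPre K n)

theorem diagHom_retHom : diagHom (ckP n K) ≫ retHom K n = 𝟙 (ck (n + 1) K) := by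
  rw [retHom, ← Adjunction.homEquiv_naturality_left, ← Equiv.eq_symm_apply, Adjunction.homEquiv_counit,
    CategoryTheory.Functor.map_id, Category.id_comp]
  refine NatTrans.ext (funext fun x => ?_)
  show (diagHom (ckP n K)).app (op x.unop.1) ≫ _ ≫ _ = _
  rw [← Category.assoc]
  refine Eq.trans (congrArg (fun t => t ≫ _) ?_) (Category.id_comp _)
  exact Over.OverMorphism.ext (diagHom_π (ckP n K) (op x.unop.1) 0)

end Step

theorem isCohDescentTop_ck (h0 : FibDesc.IsUnivCohDescentMap (K.obj (op ⦋0⦌)).hom)
    (hn : ∀ n : ℕ, FibDesc.IsUnivCohDescentMap ((ckU n K).app (op ⦋n + 1⦌)).left) (n : ℕ) :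
    FibDesc.IsCohDescentTop (fam (ck n K)) := by
  induction n with
  | zero => exact isCohDescentTop_of_natIso _ (ck0Iso K) (isCohDescentMap_of_univ h0)
  | succ n ih =>
    exact isCohDescentTop_of_retract (diagHom (ckP n K)) (retHom K n) (diagHom_retHom K n)
      (isCohDescentTop_diagPow (ckP n K) (fun k => isUnivCohDescentMap_ckP K n (hn n) k.unop) ih)

/-- A hypercovering for universal cohomological descent is of cohomological descent. -/
theorem isCohDescentTop_fam (h0 : FibDesc.IsUnivCohDescentMap (K.obj (op ⦋0⦌)).hom)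
    (hn : ∀ n : ℕ, FibDesc.IsUnivCohDescentMap ((ckU n K).app (op ⦋n + 1⦌)).left) :
    FibDesc.IsCohDescentTop (fam K) := by
  refine isCohDescentTop_of_unit (fam K) fun I a hIge hI J b hJge hJ φ hφ => ⟨fun q => ?_⟩
  haveI := hIge
  haveI := hJge
  haveI := hφ
  let N := (q + 4 - min (a - 1) b).toNat + 1
  exact quasiIsoAt_of_famMap (famMap (ckU N K)) consId (unit_of_isCohDescentTop _ (isCohDescentTop_ck K h0 hn N)) N
    (by omega) (fun m hm =>
      haveI := isIso_ckU N K m hm
      inferInstanceAs (IsIso ((Over.forget S).map ((ckU N K).app (op ⦋m⦌)))))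
    I a hI J b hJ φ q (by omega)

omit [∀ (n : ℕ) (G : (SimplexCategory.Truncated n)ᵒᵖ ⥤ Over S),
    (SimplexCategory.Truncated.inclusion n).op.HasRightKanExtension G] in
/-- The two forms of the augmented simplicial space. -/
noncomputable def augIso (h : ∀ (i : SimplexCategory) (g₁ g₂ : ⦋0⦌ ⟶ i),
      (K ⋙ Over.forget S).map g₁.op ≫ (K.obj (op ⦋0⦌)).hom = (K ⋙ Over.forget S).map g₂.op ≫ (K.obj (op ⦋0⦌)).hom) :
    fam K ≅ AugmentedSimplexCategory.equivAugmentedSimplicialObject.inverse.obj
      (SimplicialObject.augment (K ⋙ Over.forget S) S (K.obj (op ⦋0⦌)).hom h) := by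
  refine NatIso.ofComponents (fun x => match x with
    | op (.of _) => Iso.refl _
    | op .star => Iso.refl _) ?_
  intro x y g
  obtain ⟨x⟩ := x
  obtain ⟨y⟩ := y
  obtain ⟨g, rfl⟩ : ∃ g' : y ⟶ x, g = g'.op := ⟨g.unop, rfl⟩
  cases y with
  | star =>
    cases x with
    | star =>
      have hg : g.op = 𝟙 (bot SimplexCategory) := toBot_unique _ _
      rw [hg, CategoryTheory.Functor.map_id, CategoryTheory.Functor.map_id]
      exact (Category.id_comp _).trans (Category.comp_id _).symm
    | of m =>
      have hg : g.op = toBot ((toAug SimplexCategory).obj (op m)) := toBot_unique _ _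
      rw [hg]
      refine (Category.comp_id _).trans (Eq.trans ?_ (Category.id_comp _).symm)
      exact (Over.w (K.map (SimplexCategory.const ⦋0⦌ m 0).op)).symm
  | of m' =>
    cases x with
    | star => exact g.elim
    | of m => exact (Category.comp_id _).trans (Category.id_comp _).symm

end GrothLib.HypDesc25
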