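import Groth.Agent.Lib.HypDesc25.Main
import Groth.Agent.Lib.PDesc25.Cech
import Mathlib.Topology.Maps.Proper.UniversallyClosed

/-!
# Proper surjective maps are universally of cohomological descent
-/

set_option autoImplicit false
set_option backward.isDefEq.respectTransparency false
set_option backward.isDefEq.respectTransparency.types false

universe u

open CategoryTheory CategoryTheory.Limits TopologicalSpace Filter Topology

namespace GrothLib.HypDesc25

theorem isEmbedding_pair {X S S' : TopCat.{u}} (f : X ⟶ S) (g : S' ⟶ S) :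
    IsEmbedding (fun q : ↑(pullback f g) => (pullback.fst f g q, pullback.snd f g q)) := by
  have h := IsEmbedding.subtypeVal.comp (TopCat.homeoOfIso (TopCat.pullbackIsoProdSubtype f g)).isEmbedding
  refine (congrArg IsEmbedding (funext fun q => ?_)).mp h
  exact congrArg Subtype.val (TopCat.pullbackIsoProdSubtype_hom_apply (f := f) (g := g) q)

theorem isProperMap_snd {X S S' : TopCat.{u}} (f : X ⟶ S) (g : S' ⟶ S) (hf : IsProperMap f) :
    IsProperMap (pullback.snd f g) := by
  rw [isProperMap_iff_ultrafilter]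
  refine ⟨(pullback.snd f g).hom.continuous, fun 𝒰 y hy => ?_⟩
  have h1 : Tendsto (fun p => g (pullback.snd f g p)) 𝒰 (𝓝 (g y)) := (g.hom.continuous.tendsto y).comp hy
  have h2 : Tendsto f (Ultrafilter.map (pullback.fst f g) 𝒰) (𝓝 (g y)) := by
    show Tendsto f (Filter.map (pullback.fst f g) 𝒰) (𝓝 (g y))
    rw [Filter.tendsto_map'_iff]
    refine h1.congr fun p => ?_
    exact (ConcreteCategory.congr_hom pullback.condition p).symm
  obtain ⟨x, hx, hle⟩ := hf.ultrafilter_le_nhds_of_tendsto h2
  let p : ↑(pullback f g) := (TopCat.pullbackIsoProdSubtype f g).inv ⟨(x, y), hx⟩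
  have hp1 : pullback.fst f g p = x := TopCat.pullbackIsoProdSubtype_inv_fst_apply f g _
  have hp2 : pullback.snd f g p = y := TopCat.pullbackIsoProdSubtype_inv_snd_apply f g _
  refine ⟨p, hp2, ?_⟩
  rw [(isEmbedding_pair f g).isInducing.nhds_eq_comap, ← Filter.map_le_iff_le_comap]
  show Tendsto (fun q => (pullback.fst f g q, pullback.snd f g q)) 𝒰 (𝓝 (pullback.fst f g p, pullback.snd f g p))
  rw [hp1, hp2]
  exact Tendsto.prodMk_nhds hle hy

theorem isUnivCohDescentMap_of_proper {X S : TopCat.{u}} (f : X ⟶ S) (hf : IsProperMap f)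
    (hs : ∀ x x' : X, f x = f x' → x ≠ x' →
      ∃ U V : Set X, IsOpen U ∧ IsOpen V ∧ x ∈ U ∧ x' ∈ V ∧ Disjoint U V)
    (hsurj : Function.Surjective f) : FibDesc.IsUnivCohDescentMap f := fun S' g => by
  refine GrothLib.PDesc25.isCohDescentMap_of_proper (isProperMap_snd f g hf) (fun z z' h hne => ?_) (fun y => ?_)
  · have h1 : pullback.fst f g z ≠ pullback.fst f g z' := fun e =>
      hne ((isEmbedding_pair f g).injective (Prod.ext e h))
    have hfe : f (pullback.fst f g z) = f (pullback.fst f g z') := by
      refine (ConcreteCategory.congr_hom pullback.condition z).trans ?_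
      refine Eq.trans ?_ (ConcreteCategory.congr_hom pullback.condition z').symm
      exact congrArg g h
    obtain ⟨U, V, hU, hV, hzU, hzV, hd⟩ := hs _ _ hfe h1
    exact ⟨pullback.fst f g ⁻¹' U, pullback.fst f g ⁻¹' V, hU.preimage (pullback.fst f g).hom.continuous,
      hV.preimage (pullback.fst f g).hom.continuous, hzU, hzV, hd.preimage _⟩
  · obtain ⟨x, hx⟩ := hsurj (g y)
    exact ⟨(TopCat.pullbackIsoProdSubtype f g).inv ⟨(x, y), hx⟩,
      TopCat.pullbackIsoProdSubtype_inv_snd_apply f g _⟩

end GrothLib.HypDesc25
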