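import Groth.Agent.Lib.HypDesc25.Step

/-!
# A retract of a simplicial space of descent is of descent
-/

set_option autoImplicit false
set_option backward.isDefEq.respectTransparency false
set_option backward.isDefEq.respectTransparency.types false
set_option linter.unusedSectionVars false
set_option linter.style.haveILetI false
set_option maxHeartbeats 1000000

universe u

open CategoryTheory CategoryTheory.Limits Opposite Pseudofunctor Pseudofunctor.CoGrothendieck TopologicalSpace Simplicial

namespace GrothLib.HypDesc25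

open FibDesc GrothLib.CohDesc25 GrothLib.CohDesc25.FamMap

section PushId

variable {D : Type} [SmallCategory D] {Y : (WithInitial D)ᵒᵖ ⥤ TopCat.{u}} (M : FamMap (𝟭 D) Y) (J : DAb M.Z)

theorem le_pre {k k' : Dᵒᵖ} {U : Opens (Y.obj ((toAug D).obj k))} {U' : Opens (Y.obj ((toAug D).obj k'))}
    (t : pObj Y k' U' ⟶ pObj Y k U) :
    U' ≤ (Opens.map (Y.map ((toAug D).map ((𝟭 D).op.map t.base)))).obj U :=
  le_of_pHom Y t

/-- A morphism of the site of the target, on the site of the source. -/
noncomputable def tOf {k k' : Dᵒᵖ} {U : Opens (Y.obj ((toAug D).obj k))} {U' : Opens (Y.obj ((toAug D).obj k'))}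
    (t : pObj Y k' U' ⟶ pObj Y k U) : rObj (𝟭 D) Y k' U' ⟶ rObj (𝟭 D) Y k U :=
  rHom t.base (le_pre t)

/-- Sections of a direct image along a map over the identity index. -/
noncomputable abbrev pushId (k : Dᵒᵖ) (U : Opens (Y.obj ((toAug D).obj k))) :
    (M.pushM.obj J).obj.obj (op (pObj Y k U)) →+ J.obj.obj (op (pObj M.Z k ((Opens.map (M.zπ k)).obj U))) :=
  M.mLeg J (j := k) (W := U) (𝟙 _)

theorem mLeg_eq_pushId {k k' : Dᵒᵖ} {U : Opens (Y.obj ((toAug D).obj k))} {U' : Opens (Y.obj ((toAug D).obj k'))}
    (g : (q (𝟭 D) Y).obj (rObj (𝟭 D) Y k' U') ⟶ pObj Y k U) (x : (M.pushM.obj J).obj.obj (op (pObj Y k U))) :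
    M.mLeg J g x = J.obj.map (M.v.map (tOf g)).op (pushId M J k U x) := by
  refine Eq.trans ?_ (M.map_mLeg J (tOf g) (𝟙 _) x).symm
  exact M.mLeg_eq J _ _ (Category.comp_id _).symm x

theorem bijective_pushId (k : Dᵒᵖ) (U : Opens (Y.obj ((toAug D).obj k))) : Function.Bijective (pushId M J k U) := by
  refine ⟨fun x y h => rleg_ext (q (𝟭 D) Y) (M.vPush.obj J) x y fun c g => ?_, fun y => ?_⟩
  · obtain ⟨k', U'⟩ := c
    exact (mLeg_eq_pushId M J (k' := k') (U' := U') g x).trans
      ((congrArg (J.obj.map _) h).trans (mLeg_eq_pushId M J (k' := k') (U' := U') g y).symm)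
  · obtain ⟨x, hx⟩ := exists_of_rlegs (K := totPart (topAug Y) (topAugTop Y)) (q (𝟭 D) Y) (M.vPush.obj J) (d := pObj Y k U)
      (fun c g => J.obj.map (M.v.map (tOf (k' := c.base) (U' := c.fiber) g)).op y) (fun c c' s g => by
        refine (Functor.map_comp_apply J.obj _ _ y).symm.trans ?_
        exact congrArg (fun r => J.obj.map r y) (Quiver.Hom.unop_inj (pHom_ext M.Z rfl)))
    refine ⟨x, (hx (rObj (𝟭 D) Y k U) (𝟙 _)).trans ?_⟩
    refine Eq.trans ?_ (Functor.map_id_apply J.obj _ y)
    exact congrArg (fun r => J.obj.map r y) (Quiver.Hom.unop_inj (pHom_ext M.Z rfl))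

theorem pushId_map {k k' : Dᵒᵖ} {U : Opens (Y.obj ((toAug D).obj k))} {U' : Opens (Y.obj ((toAug D).obj k'))}
    (t : pObj Y k' U' ⟶ pObj Y k U) (x : (M.pushM.obj J).obj.obj (op (pObj Y k U))) :
    pushId M J k' U' ((M.pushM.obj J).obj.map t.op x) = J.obj.map (M.v.map (tOf t)).op (pushId M J k U x) := by
  refine (rleg_res (q (𝟭 D) Y) (M.vPush.obj J) _ t x).trans ?_
  refine Eq.trans ?_ (mLeg_eq_pushId M J t x)
  exact M.mLeg_eq J _ _ (Category.id_comp _) x

theorem pushId_app {J' : DAb M.Z} (φ : J ⟶ J') (k : Dᵒᵖ) (U : Opens (Y.obj ((toAug D).obj k)))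
    (x : (M.pushM.obj J).obj.obj (op (pObj Y k U))) :
    φ.hom.app _ (pushId M J k U x) = pushId M J' k U ((M.pushM.map φ).hom.app _ x) :=
  app_rleg (q (𝟭 D) Y) (M.vPush.obj J) (M.vPush.map φ) (c := rObj (𝟭 D) Y k U) (𝟙 _) x

end PushId

variable {S : TopCat.{u}} {X W : SimplicialObject (Over S)} (s : X ⟶ W) (r : W ⟶ X) (hrs : s ≫ r = 𝟙 X)

include hrs in
theorem pre_eq (k : SimplexCategoryᵒᵖ) (U : Opens ((fam X).obj ((toAug SimplexCategory).obj k))) :
    (Opens.map ((famMap s).zπ k)).obj ((Opens.map ((famMap r).zπ k)).obj U) = U := by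
  apply Opens.ext
  ext z
  change (r.app k).left ((s.app k).left z) ∈ U ↔ z ∈ U
  rw [show (r.app k).left ((s.app k).left z) = z from
    ConcreteCategory.congr_hom (congrArg (fun t => CommaMorphism.left (NatTrans.app t k)) hrs) z]

/-- Sections of the iterated direct image. -/
noncomputable def retVal (J : DAb (famMap s).Z) (k : SimplexCategoryᵒᵖ)
    (U : Opens ((fam X).obj ((toAug SimplexCategory).obj k))) :
    ((famMap r).pushM.obj ((famMap s).pushM.obj J)).obj.obj (op (pObj (fam X) k U)) →+
      J.obj.obj (op (pObj (fam X) k U)) :=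
  ((J.obj.map (pInc (Y := (famMap s).Z) (pre_eq s r hrs k U).ge).op).hom.comp
    (pushId (famMap s) J k ((Opens.map ((famMap r).zπ k)).obj U))).comp (pushId (famMap r) ((famMap s).pushM.obj J) k U)

theorem bijective_retVal (J : DAb (famMap s).Z) (k : SimplexCategoryᵒᵖ)
    (U : Opens ((fam X).obj ((toAug SimplexCategory).obj k))) : Function.Bijective (retVal s r hrs J k U) := by
  haveI : IsIso (pInc (Y := (famMap s).Z) (j := k) (pre_eq s r hrs k U).ge) :=
    ⟨pInc (Y := (famMap s).Z) (pre_eq s r hrs k U).le, pHom_ext _ (Category.comp_id _), pHom_ext _ (Category.comp_id _)⟩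
  exact (((ConcreteCategory.isIso_iff_bijective (J.obj.map (pInc (Y := (famMap s).Z) (pre_eq s r hrs k U).ge).op)).1
    inferInstance).comp (bijective_pushId (famMap s) J k _)).comp (bijective_pushId (famMap r) _ k U)

/-- The iterated direct image is the identity. -/
noncomputable def retIso : (famMap s).pushM ⋙ (famMap r).pushM ≅ 𝟭 (DAb (fam X)) :=
  NatIso.ofComponents
    (fun J =>
      let φ : ((famMap s).pushM ⋙ (famMap r).pushM).obj J ⟶ (𝟭 (DAb (fam X))).obj J := ObjectProperty.homMk
        { app := fun Z => AddCommGrpCat.ofHom (retVal s r hrs J Z.unop.base Z.unop.fiber)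
          naturality := fun Z Z' g => by
            ext x
            let t : pObj (fam X) Z'.unop.base Z'.unop.fiber ⟶ pObj (fam X) Z.unop.base Z.unop.fiber := g.unop
            refine (congrArg (fun y => J.obj.map (pInc (Y := (famMap s).Z) (pre_eq s r hrs _ _).ge).op
              (pushId (famMap s) J Z'.unop.base _ y)) (pushId_map (famMap r) ((famMap s).pushM.obj J) t x)).trans ?_
            refine (congrArg (J.obj.map (pInc (Y := (famMap s).Z) (pre_eq s r hrs _ _).ge).op)
              (pushId_map (famMap s) J ((famMap r).v.map (tOf t)) _)).trans ?_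
            refine (Functor.map_comp_apply J.obj _ _ _).symm.trans (Eq.trans ?_ (Functor.map_comp_apply J.obj _ _ _))
            exact congrArg (fun e => J.obj.map e _) (Quiver.Hom.unop_inj (pHom_ext _
              ((Category.id_comp _).trans (Category.comp_id _).symm))) }
      haveI : IsIso φ := by
        haveI : ∀ Z, IsIso (φ.hom.app Z) := fun Z =>
          (ConcreteCategory.isIso_iff_bijective _).2 (bijective_retVal s r hrs J Z.unop.base Z.unop.fiber)
        haveI : IsIso φ.hom := NatIso.isIso_of_isIso_app _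
        haveI : IsIso ((sheafToPresheaf _ _).map φ) := inferInstanceAs (IsIso φ.hom)
        exact isIso_of_reflects_iso _ (sheafToPresheaf _ _)
      asIso φ)
    (fun {J J'} φ => by
      ext Z x
      refine Eq.trans ?_ (NatTrans.naturality_apply φ.hom
        (pInc (Y := (famMap s).Z) (pre_eq s r hrs Z.unop.base Z.unop.fiber).ge).op _).symm
      refine congrArg (J'.obj.map (pInc (Y := (famMap s).Z) (pre_eq s r hrs _ _).ge).op) ?_
      refine Eq.trans ?_ (pushId_app (famMap s) J φ _ _ _).symm
      refine congrArg (pushId (famMap s) J' _ _) ?_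
      exact (pushId_app (famMap r) _ ((famMap s).pushM.map φ) _ _ x).symm)

include hrs in
/-- A retract of a simplicial space of descent is of descent. -/
theorem isCohDescentTop_of_retract (hW : FibDesc.IsCohDescentTop (fam W)) : FibDesc.IsCohDescentTop (fam X) := by
  haveI hP : (eps (topAug (fam X))).sheafPushforwardContinuous AddCommGrpCat.{u}
      ((topAugTop (fam X)) (bot SimplexCategory))
      (totAug (topAug (fam X)) (topAugTop (fam X))) |>.IsRightAdjoint := inferInstance
  refine ⟨inferInstance, hP, inferInstance, inferInstance, fun P => inferInstance,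
    preservesFiniteLimits_Tpull, fun K L => ?_⟩
  letI := HasDerivedCategory.standard (BAb (fam X))
  letI := HasDerivedCategory.standard (DAb (fam X))
  letI := HasDerivedCategory.standard (DAb (fam W))
  letI : HasDerivedCategory (DAb (famMap r).Z) := HasDerivedCategory.standard (DAb (fam W))
  obtain ⟨_, _, _, _, _, _, hb⟩ := hW
  let e : (famMap r).pullM ⋙ (famMap s).pullM ≅ 𝟭 (DAb (fam X)) :=
    (((famMap r).adjM.comp (famMap s).adjM).ofNatIsoRight (retIso s r hrs)).leftAdjointUniq Adjunction.id
  exact bijective_of_comp (Tpull (fam X)) (famMap r).pullM (Tpull (fam W)) (famMap r).TIso hb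
    (fun A B => by
      let G : DAb (famMap r).Z ⥤ DAb (fam X) := (famMap s).pullM
      haveI : G.Additive := instAdditivePullM (famMap s)
      haveI : PreservesFiniteLimits G := instFiniteLimitsPullM (famMap s)
      haveI : PreservesFiniteColimits G := instFiniteColimitsPullM (famMap s)
      exact injective_of_retraction (famMap r).pullM G e A.obj B.obj) K L

end GrothLib.HypDesc25
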