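import Groth.Agent.Lib.HypDesc25.Level

/-!
# Rows of an inverse image along a map of families indexed by simplices
-/

set_option autoImplicit false
set_option backward.isDefEq.respectTransparency false
set_option backward.isDefEq.respectTransparency.types false
set_option linter.unusedSectionVars false
set_option linter.style.haveILetI false
set_option maxHeartbeats 1000000

universe u

open CategoryTheory CategoryTheory.Limits Opposite Pseudofunctor Pseudofunctor.CoGrothendieck TopologicalSpace Simplicial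

namespace GrothLib.HypDesc25

open FibDesc GrothLib.CohDesc25 GrothLib.CohDesc25.FamMap

variable {D : Type} [SmallCategory D] {pr : SimplexCategory ⥤ D} {Y : (WithInitial D)ᵒᵖ ⥤ TopCat.{u}}
  (M : FamMap pr Y) (L : Cons pr) (E : DAb Y) (V : Opens (Y.obj (bot D)))

theorem ov_le_pre (j : SimplexCategoryᵒᵖ) :
    ov M.Z j V ≤ (Opens.map (M.zπ j)).obj (ov Y (pr.op.obj j) V) := fun z hz => by
  show Y.map (toBot _) (M.π j z) ∈ V
  rw [M.π_aug_apply]
  exact hz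

theorem pre_le_ov (j : SimplexCategoryᵒᵖ) :
    (Opens.map (M.zπ j)).obj (ov Y (pr.op.obj j) V) ≤ ov M.Z j V := fun z hz => by
  show M.aug j z ∈ V
  rw [← M.π_aug_apply]
  exact hz

/-- Sections of a row, seen in the inverse image. -/
noncomputable def ξ (n : ℕ) : lsec pr Y E V n →+ lsec (𝟭 SimplexCategory) M.Z (M.pullM.obj E) V n :=
  M.mA E (c := rObj pr Y (op ⦋n⦌) (ov Y (pr.op.obj (op ⦋n⦌)) V)) (pInc (Y := M.Z) (ov_le_pre M V (op ⦋n⦌)))

theorem ξ_eq (n : ℕ) (x : lsec pr Y E V n) : ξ M E V n x =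
    (M.pullM.obj E).obj.map (pInc (Y := M.Z) (ov_le_pre M V (op ⦋n⦌))).op (ηL M E (op ⦋n⦌) _ x) := by
  refine Eq.trans ?_ (map_atHom (K := totPart (topAug M.Z) (topAugTop M.Z)) M.v
    (((q pr Y).sheafPushforwardContinuous AddCommGrpCat.{u} (prTot pr Y) (totPart (topAug Y) (topAugTop Y))).obj E)
    (U := rObj pr Y (op ⦋n⦌) (ov Y (pr.op.obj (op ⦋n⦌)) V)) (pInc (Y := M.Z) (ov_le_pre M V (op ⦋n⦌))) (𝟙 _) x).symm
  exact congrArg (fun r => M.mA E (c := rObj pr Y (op ⦋n⦌) (ov Y (pr.op.obj (op ⦋n⦌)) V)) r x) (Category.comp_id _).symm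

theorem bijective_ξ (n : ℕ) [IsIso (M.π (op ⦋n⦌))] : Function.Bijective (ξ M E V n) := by
  let a : pObj M.Z (op ⦋n⦌) (ov M.Z (op ⦋n⦌) V) ⟶ pObj M.Z (op ⦋n⦌) ((Opens.map (M.zπ _)).obj (ov Y _ V)) :=
    pInc (ov_le_pre M V (op ⦋n⦌))
  haveI : IsIso a := ⟨pInc (pre_le_ov M V (op ⦋n⦌)), pHom_ext M.Z (Category.comp_id _), pHom_ext M.Z (Category.comp_id _)⟩
  rw [show ⇑(ξ M E V n) = ⇑((M.pullM.obj E).obj.map a.op) ∘ ⇑(ηL M E (op ⦋n⦌) _) from funext (ξ_eq M E V n)]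
  exact ((ConcreteCategory.isIso_iff_bijective _).1 inferInstance).comp (bijective_ηL M E _ _)

theorem ξ_secD (n : ℕ) (x : lsec pr Y E V n) :
    ξ M E V (n + 1) (secD pr Y E V n x) = secD (𝟭 SimplexCategory) M.Z (M.pullM.obj E) V n (ξ M E V n x) := by
  rw [secD_apply, secD_apply, map_sum]
  refine Finset.sum_congr rfl fun i _ => ?_
  rw [map_zsmul]
  refine congrArg _ ?_
  exact (mA_res M E (c := rObj pr Y (op ⦋n⦌) (ov Y (pr.op.obj (op ⦋n⦌)) V))
    (c' := rObj pr Y (op ⦋n + 1⦌) (ov Y (pr.op.obj (op ⦋n + 1⦌)) V))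
    ((ovFun (𝟭 SimplexCategory) M.Z V).map (SimplexCategory.δ i).op) (pInc (Y := M.Z) (ov_le_pre M V (op ⦋n⦌)))
    (pInc (Y := M.Z) (ov_le_pre M V (op ⦋n + 1⦌))) (rHom (SimplexCategory.δ i).op (ov_le Y _ le_rfl))
    ((Category.comp_id _).trans (Category.id_comp _).symm) x).symm

/-- The direct image of the unit, in sections. -/
noncomputable def Φu : ((Ppush Y).obj E).obj.obj (op V) →+ ((Ppush M.Z).obj (M.pullM.obj E)).obj.obj (op V) :=
  (M.ΦVal (M.pullM.obj E) V).comp (((Ppush Y).map (M.adjM.unit.app E)).hom.app (op V)).hom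

theorem aug0_Φu (x : ((Ppush Y).obj E).obj.obj (op V)) :
    aug0 (pr := 𝟭 SimplexCategory) (M.pullM.obj E) V (Φu M E V x) = ξ M E V 0 (aug0 (pr := pr) E V x) := by
  refine (M.leg_ΦVal (M.pullM.obj E) (j := op ⦋0⦌) (W := ov M.Z (op ⦋0⦌) V)
    (aHom M.Z (toBot _) le_rfl) (((Ppush Y).map (M.adjM.unit.app E)).hom.app (op V) x)).trans ?_
  rw [ξ_eq]
  refine congrArg ((M.pullM.obj E).obj.map (pInc (Y := M.Z) (ov_le_pre M V (op ⦋0⦌))).op) ?_
  refine (congrArg (M.mLeg (M.pullM.obj E) (j := op ⦋0⦌) (W := over (pr := pr) (op ⦋0⦌) V) (𝟙 _))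
    ((app_rleg (incl (topAug Y)) E (M.adjM.unit.app E)
      (c := pObj Y (pr.op.obj (op ⦋0⦌)) (over (pr := pr) (op ⦋0⦌) V)) (overHom (op ⦋0⦌) V) x).symm)).trans ?_
  rw [← Adjunction.homEquiv_id]
  refine (M.mLeg_homEquiv (𝟙 (M.pullM.obj E)) (j := op ⦋0⦌) (W := over (pr := pr) (op ⦋0⦌) V) (𝟙 _) _).trans ?_
  refine congrArg (ηL M E (op ⦋0⦌) _) ?_
  exact (Functor.map_id_apply E.obj _ _).trans (leg_eq E _ _ x)

include L in
theorem bijective_Φu [IsIso (M.π (op ⦋0⦌))] [IsIso (M.π (op ⦋1⦌))] : Function.Bijective (Φu M E V) := by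
  refine ⟨fun x y h => aug0_injective V L (J := E) ((bijective_ξ M E V 0).1 ?_), fun z => ?_⟩
  · rw [← aug0_Φu, ← aug0_Φu, h]
  · obtain ⟨g, hg⟩ := (bijective_ξ M E V 0).2 (aug0 (pr := 𝟭 SimplexCategory) (M.pullM.obj E) V z)
    have hd : secD pr Y E V 0 g = 0 := by
      refine (bijective_ξ M E V 1).1 ?_
      rw [ξ_secD, hg, map_zero]
      exact secD_aug0 (M.pullM.obj E) V z
    obtain ⟨x, hx⟩ := aug0_exact V L (J := E) g hd
    refine ⟨x, aug0_injective (J := M.pullM.obj E) V consId ?_⟩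
    rw [aug0_Φu, hx, hg]

include L in
theorem isIso_map_unit [IsIso (M.π (op ⦋0⦌))] [IsIso (M.π (op ⦋1⦌))] :
    IsIso ((Ppush Y).map (M.adjM.unit.app E)) := by
  haveI : ∀ W, IsIso (((Ppush Y).map (M.adjM.unit.app E)).hom.app W) := fun W => by
    rw [ConcreteCategory.isIso_iff_bijective]
    exact (Function.Bijective.of_comp_iff' (M.bijective_ΦVal (M.pullM.obj E) W.unop) _).1 (bijective_Φu M L E W.unop)
  haveI : IsIso ((Ppush Y).map (M.adjM.unit.app E)).hom := NatIso.isIso_of_isIso_app _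
  haveI : IsIso ((sheafToPresheaf _ _).map ((Ppush Y).map (M.adjM.unit.app E))) :=
    inferInstanceAs (IsIso ((Ppush Y).map (M.adjM.unit.app E)).hom)
  exact isIso_of_reflects_iso _ (sheafToPresheaf _ _)

include L in
/-- Rows of the inverse image of an injective sheaf are exact where the map is an isomorphism. -/
theorem secD_pullM_exact [Injective E] (n : ℕ) [IsIso (M.π (op ⦋n⦌))] [IsIso (M.π (op ⦋n + 1⦌))]
    [IsIso (M.π (op ⦋n + 2⦌))] (z : lsec (𝟭 SimplexCategory) M.Z (M.pullM.obj E) V (n + 1))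
    (hz : secD (𝟭 SimplexCategory) M.Z (M.pullM.obj E) V (n + 1) z = 0) :
    ∃ y, secD (𝟭 SimplexCategory) M.Z (M.pullM.obj E) V n y = z := by
  obtain ⟨g, rfl⟩ := (bijective_ξ M E V (n + 1)).2 z
  have h0 : secD pr Y E V (n + 1) g = 0 := (bijective_ξ M E V (n + 2)).1 (by rw [ξ_secD, hz, map_zero])
  obtain ⟨y, hy⟩ := secD_exact V L n g h0
  exact ⟨ξ M E V n y, by rw [← ξ_secD, hy]⟩

end GrothLib.HypDesc25
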