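import Groth.Agent.Lib.HypDesc25.Acy
import Groth.Agent.Lib.CohDesc25.Univ
import Mathlib.AlgebraicTopology.SimplicialObject.Basic
import Mathlib.CategoryTheory.Comma.Over.Basic

/-!
# Cech powers of a map of simplicial spaces
-/

set_option autoImplicit false
set_option backward.isDefEq.respectTransparency false
set_option backward.isDefEq.respectTransparency.types false
set_option linter.unusedSectionVars false
set_option linter.style.haveILetI false
set_option maxHeartbeats 1000000

universe u

open CategoryTheory CategoryTheory.Limits Opposite TopologicalSpace Simplicial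

namespace GrothLib.HypDesc25

open FibDesc GrothLib.CohDesc25

variable {S : TopCat.{u}}

/-- The augmented family of a simplicial space over a base. -/
noncomputable abbrev fam (X : SimplicialObject (Over S)) : (WithInitial SimplexCategory)ᵒᵖ ⥤ TopCat.{u} :=
  mkFam (X ⋙ Over.forget S) S (fun j => (X.obj j).hom) (fun g => Over.w (X.map g))

variable {X X' : SimplicialObject (Over S)}

/-- A map of simplicial spaces over a base, as a map of families. -/
noncomputable def famMap (f : X ⟶ X') : FamMap (𝟭 SimplexCategory) (fam X') where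
  Zp := X ⋙ Over.forget S
  aug j := (X.obj j).hom
  h g := Over.w (X.map g)
  π j := (f.app j).left
  π_nat g := congrArg CommaMorphism.left (f.naturality g)
  π_aug j := Over.w (f.app j)

theorem famMap_Z (f : X ⟶ X') : (famMap f).Z = fam X := rfl

variable (f : X ⟶ X')

/-- The map of nerves of a simplicial operator in both indices. -/
noncomputable def powMap {a a' b b' : SimplexCategory} (θ : a' ⟶ a) (η : b' ⟶ b) :
    cN (f.app (op a)).left b ⟶ cN (f.app (op a')).left b' :=
  WidePullback.lift (cBase (f.app (op a)).left b ≫ (X'.map θ.op).left)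
    (fun i => cπ (f.app (op a)).left b (η.toOrderHom i) ≫ (X.map θ.op).left)
    (fun i => by
      rw [Category.assoc, ← Over.comp_left, f.naturality, Over.comp_left, ← Category.assoc, WidePullback.π_arrow])

theorem powMap_π {a a' b b' : SimplexCategory} (θ : a' ⟶ a) (η : b' ⟶ b) (i : Fin (b'.len + 1)) :
    powMap f θ η ≫ cπ (f.app (op a')).left b' i =
      cπ (f.app (op a)).left b (η.toOrderHom i) ≫ (X.map θ.op).left :=
  WidePullback.lift_π _ _ _ _ _

theorem powMap_base {a a' b b' : SimplexCategory} (θ : a' ⟶ a) (η : b' ⟶ b) :
    powMap f θ η ≫ cBase (f.app (op a')).left b' = cBase (f.app (op a)).left b ≫ (X'.map θ.op).left :=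
  WidePullback.lift_base _ _ _ _

theorem powMap_id (a b : SimplexCategory) : powMap f (𝟙 a) (𝟙 b) = 𝟙 _ := by
  refine WidePullback.hom_ext (C := TopCat.{u}) _ _ _ (fun i => ?_) ?_
  · refine (powMap_π f _ _ i).trans ?_
    rw [op_id, CategoryTheory.Functor.map_id, Over.id_left, Category.comp_id, Category.id_comp]
    rfl
  · refine (powMap_base f _ _).trans ?_
    rw [op_id, CategoryTheory.Functor.map_id, Over.id_left, Category.comp_id, Category.id_comp]

theorem powMap_comp {a a' a'' b b' b'' : SimplexCategory} (θ : a' ⟶ a) (η : b' ⟶ b) (θ' : a'' ⟶ a') (η' : b'' ⟶ b') :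
    powMap f (θ' ≫ θ) (η' ≫ η) = powMap f θ η ≫ powMap f θ' η' := by
  refine WidePullback.hom_ext (C := TopCat.{u}) _ _ _ (fun i => ?_) ?_
  · refine (powMap_π f _ _ i).trans ?_
    refine Eq.trans ?_ (Category.assoc _ _ _).symm
    refine Eq.trans ?_ (congrArg (fun t => powMap f θ η ≫ t) (powMap_π f θ' η' i)).symm
    rw [← Category.assoc, powMap_π, Category.assoc, op_comp, Functor.map_comp, Over.comp_left]
    rfl
  · refine (powMap_base f _ _).trans ?_
    refine Eq.trans ?_ (Category.assoc _ _ _).symm
    refine Eq.trans ?_ (congrArg (fun t => powMap f θ η ≫ t) (powMap_base f θ' η')).symm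
    rw [← Category.assoc, powMap_base, Category.assoc, op_comp, Functor.map_comp, Over.comp_left]

/-- The Cech powers as a bisimplicial space. -/
noncomputable def pows : (SimplexCategory × SimplexCategory)ᵒᵖ ⥤ TopCat.{u} where
  obj j := cN (f.app (op j.unop.1)).left j.unop.2
  map g := powMap f g.unop.1 g.unop.2
  map_id j := powMap_id f j.unop.1 j.unop.2
  map_comp g h := powMap_comp f g.unop.1 g.unop.2 h.unop.1 h.unop.2

/-- The Cech powers over the target. -/
noncomputable def powFam : FamMap (CategoryTheory.Prod.fst SimplexCategory SimplexCategory) (fam X') where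
  Zp := pows f
  aug j := cBase (f.app (op j.unop.1)).left j.unop.2 ≫ (X'.obj (op j.unop.1)).hom
  h {j k} g := by
    refine (Category.assoc _ _ _).symm.trans ?_
    refine (congrArg (fun t => t ≫ (X'.obj (op k.unop.1)).hom) (powMap_base f g.unop.1 g.unop.2)).trans ?_
    exact (Category.assoc _ _ _).trans (congrArg (fun t => _ ≫ t) (Over.w _))
  π j := cBase (f.app (op j.unop.1)).left j.unop.2
  π_nat g := powMap_base f g.unop.1 g.unop.2
  π_aug _ := rfl

/-- A column of the Cech powers is a nerve. -/
noncomputable def powColIso (n : SimplexCategory) :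
    cechAug (f.app (op n)).left ≅ (powFam f).Col (fstCols SimplexCategory SimplexCategory) n := by
  have hid : (fam X').map ((toAug SimplexCategory).map (Iso.refl n).hom.op) = 𝟙 _ :=
    (congrArg (fam X').map ((toAug SimplexCategory).map_id (op n))).trans ((fam X').map_id _)
  refine NatIso.ofComponents (fun x => match x with
    | op (.of _) => Iso.refl _
    | op .star => Iso.refl _) ?_
  intro x y g
  obtain ⟨x⟩ := x
  obtain ⟨y⟩ := y
  obtain ⟨g, rfl⟩ : ∃ g' : y ⟶ x, g = g'.op := ⟨g.unop, rfl⟩
  cases y with
  | star =>
    cases x with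
    | star =>
      have hg : g.op = 𝟙 (bot SimplexCategory) := toBot_unique _ _
      rw [hg, CategoryTheory.Functor.map_id, CategoryTheory.Functor.map_id]
      exact (Category.id_comp _).trans (Category.comp_id _).symm
    | of m =>
      have hg : g.op = toBot ((toAug SimplexCategory).obj (op m)) := toBot_unique _ _
      rw [hg]
      refine (Category.comp_id _).trans (Eq.trans ?_ (Category.id_comp _).symm)
      exact ((congrArg (fun t => cBase (f.app (op n)).left m ≫ t) hid).trans (Category.comp_id _)).symm
  | of m' =>
    cases x with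
    | star => exact g.elim
    | of m =>
      let g' : m' ⟶ m := g
      refine (Category.comp_id _).trans (Eq.trans ?_ (Category.id_comp _).symm)
      show (cechAug (f.app (op n)).left).map ((toAug SimplexCategory).map g'.op) = powMap f (𝟙 n) g'
      refine WidePullback.hom_ext (C := TopCat.{u}) _ _ _ (fun i => ?_) ?_
      · refine (cech_map_π _ g' i).trans ?_
        refine Eq.trans ?_ (powMap_π f _ _ i).symm
        rw [op_id, CategoryTheory.Functor.map_id, Over.id_left, Category.comp_id]
        rfl
      · refine (cech_map_base _ g').trans ?_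
        refine Eq.trans ?_ (powMap_base f _ _).symm
        rw [op_id, CategoryTheory.Functor.map_id, Over.id_left, Category.comp_id]
        rfl

theorem isCohDescentTop_powFam (h : ∀ n, FibDesc.IsUnivCohDescentMap (f.app n).left)
    (hX' : FibDesc.IsCohDescentTop (fam X')) : FibDesc.IsCohDescentTop (powFam f).Z :=
  isCohDescentTop_of_columns (powFam f) (fstCols SimplexCategory SimplexCategory) hX'
    fun n => isCohDescentTop_of_natIso _ (powColIso f n) (isCohDescentMap_of_univ (h (op n)))

/-- The diagonal of the Cech powers. -/
noncomputable def diagPow : SimplicialObject (Over S) where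
  obj m := Over.mk (cBase (f.app (op m.unop)).left m.unop ≫ (X'.obj (op m.unop)).hom)
  map θ := Over.homMk (powMap f θ.unop θ.unop) ((powFam f).h (j := op (_, _)) (k := op (_, _)) (Quiver.Hom.op (θ.unop, θ.unop)))
  map_id m := Over.OverMorphism.ext (powMap_id f _ _)
  map_comp θ θ' := Over.OverMorphism.ext (powMap_comp f θ.unop θ.unop θ'.unop θ'.unop)

/-- The diagonal, as a map of families. -/
noncomputable def diagFam : FamMap diagΔ (powFam f).Z where
  Zp := diagPow f ⋙ Over.forget S
  aug j := ((diagPow f).obj j).hom
  h g := Over.w ((diagPow f).map g)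
  π j := 𝟙 ((pows f).obj (op (j.unop, j.unop)))
  π_nat g := (Category.comp_id _).trans (Category.id_comp _).symm
  π_aug j := Category.id_comp _

theorem isCohDescentTop_diagPow (h : ∀ n, FibDesc.IsUnivCohDescentMap (f.app n).left)
    (hX' : FibDesc.IsCohDescentTop (fam X')) : FibDesc.IsCohDescentTop (fam (diagPow f)) :=
  isCohDescentTop_of_famMap (diagFam f) consDiag (isCohDescentTop_powFam f h hX')
    fun m => inferInstanceAs (IsIso (𝟙 ((pows f).obj (op (⦋m⦌, ⦋m⦌)))))

/-- The diagonal map. -/
noncomputable def diagHom : X ⟶ diagPow f where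
  app m := Over.homMk (WidePullback.lift (f.app m).left (fun _ => 𝟙 _) (fun _ => Category.id_comp _)) (by
    show _ ≫ cBase (f.app (op m.unop)).left m.unop ≫ _ = _
    rw [← Category.assoc, WidePullback.lift_base]
    exact Over.w (f.app m))
  naturality m m' θ := by
    apply Over.OverMorphism.ext
    refine WidePullback.hom_ext (C := TopCat.{u}) _ _ _ (fun i => ?_) ?_
    · show ((X.map θ).left ≫ WidePullback.lift _ _ _) ≫ cπ _ _ i =
        (WidePullback.lift _ _ _ ≫ powMap f θ.unop θ.unop) ≫ cπ _ _ i
      rw [Category.assoc, Category.assoc, powMap_π, WidePullback.lift_π, Category.comp_id, ← Category.assoc,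
        WidePullback.lift_π, Category.id_comp]
      rfl
    · show ((X.map θ).left ≫ WidePullback.lift _ _ _) ≫ cBase _ _ =
        (WidePullback.lift _ _ _ ≫ powMap f θ.unop θ.unop) ≫ cBase _ _
      rw [Category.assoc, Category.assoc, powMap_base, WidePullback.lift_base, ← Category.assoc,
        WidePullback.lift_base]
      exact congrArg CommaMorphism.left (f.naturality θ)

theorem diagHom_π (m : SimplexCategoryᵒᵖ) (i : Fin (m.unop.len + 1)) :
    ((diagHom f).app m).left ≫ cπ (f.app (op m.unop)).left m.unop i = 𝟙 _ :=
  WidePullback.lift_π _ _ _ _ _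

end GrothLib.HypDesc25
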